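import Cfsg.Agent.Lib.Local.Triple.Base

/-!
The Thompson subgroup and the join `Ĵ` of the E-groups above it, inside an ambient group.
-/

set_option autoImplicit false

universe u v

open scoped commutatorElement

namespace Cfsg.Lib.Local.Triple

open Subgroup

variable {G : Type u} [Group G]

/-- The elementary abelian `2`-subgroups of largest order of `T`. -/
def MaxEl (T A : Subgroup G) : Prop :=
  A ≤ T ∧ Cfsg.IsElementaryAbelian 2 A ∧
    ∀ B ≤ T, Cfsg.IsElementaryAbelian 2 B → Nat.card B ≤ Nat.card A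

/-- `Ĵ(T)` inside the group. -/
def Hof (T : Subgroup G) : Subgroup G := (Cfsg.jHat ↥T).map T.subtype

/-- `Ω₁(Z(T))` inside the group. -/
def Zof (T : Subgroup G) : Subgroup G := Cfsg.omegaOne 2 (T ⊓ centralizer (T : Set G))

local notation "Jof" => Cfsg.thompsonSubgroupOf 2

theorem jof_eq_sSup (T : Subgroup G) : Jof T = sSup {A | MaxEl T A} := by
  refine le_antisymm ?_ (sSup_le ?_)
  · rw [Cfsg.thompsonSubgroupOf, Cfsg.thompsonSubgroup, map_le_iff_le_comap, sSup_le_iff]
    intro A hA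
    rw [← map_le_iff_le_comap]
    refine le_sSup ⟨map_subtype_le _, Cfsg.Lib.Thompson.isEA_map _ hA.1, fun B hB hBe => ?_⟩
    rw [card_map_of_injective T.subtype_injective, ← Nat.card_congr (subgroupOfEquivOfLe hB).toEquiv]
    exact hA.2 _ (Cfsg.Lib.Thompson.isEA_subgroupOf hBe T)
  · rintro A ⟨hAT, hAe, hmax⟩
    rw [← map_subgroupOf_eq_of_le hAT, Cfsg.thompsonSubgroupOf]
    refine map_mono (le_sSup ⟨Cfsg.Lib.Thompson.isEA_subgroupOf hAe T, fun B hB => ?_⟩)
    rw [Nat.card_congr (subgroupOfEquivOfLe hAT).toEquiv, ← card_map_of_injective T.subtype_injective]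
    exact hmax _ (map_subtype_le _) (Cfsg.Lib.Thompson.isEA_map _ hB)

theorem jof_le (T : Subgroup G) : Jof T ≤ T := map_subtype_le _

theorem maxEl_le_jof {T A : Subgroup G} (h : MaxEl T A) : A ≤ Jof T := by
  rw [jof_eq_sSup]; exact le_sSup h

theorem exists_maxEl [Finite G] (T : Subgroup G) : ∃ A, MaxEl T A := by
  obtain ⟨A, hA, hmax⟩ := Cfsg.Lib.Thompson.exists_mem_maxEA 2 ↥T
  refine ⟨A.map T.subtype, map_subtype_le _, Cfsg.Lib.Thompson.isEA_map _ hA, fun B hB hBe => ?_⟩
  rw [card_map_of_injective T.subtype_injective, ← Nat.card_congr (subgroupOfEquivOfLe hB).toEquiv]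
  exact hmax _ (Cfsg.Lib.Thompson.isEA_subgroupOf hBe T)

theorem maxEl_iff [Finite G] {T T' A : Subgroup G} (hle : T' ≤ T) (hJ : Jof T ≤ T') :
    MaxEl T' A ↔ MaxEl T A := by
  constructor
  · rintro ⟨hA, hAe, hmax⟩
    obtain ⟨A₀, hA₀⟩ := exists_maxEl T
    refine ⟨hA.trans hle, hAe, fun B hB hBe => (hA₀.2.2 B hB hBe).trans ?_⟩
    exact hmax A₀ ((maxEl_le_jof hA₀).trans hJ) hA₀.2.1
  · intro h
    exact ⟨(maxEl_le_jof h).trans hJ, h.2.1, fun B hB => h.2.2 B (hB.trans hle)⟩

theorem jof_eq_of_le [Finite G] {T T' : Subgroup G} (hle : T' ≤ T) (hJ : Jof T ≤ T') : Jof T' = Jof T := by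
  rw [jof_eq_sSup, jof_eq_sSup]
  exact congrArg sSup (Set.ext fun A => maxEl_iff hle hJ)

theorem map_jof {H : Type v} [Group H] {f : G →* H} (hf : Function.Injective f) (T : Subgroup G) :
    (Jof T).map f = Cfsg.thompsonSubgroupOf 2 (T.map f) :=
  Cfsg.Lib.Thompson.map_thompsonSubgroupOf f T hf.injOn

theorem isEGroup_of_equiv {T : Type u} [Group T] {T' : Type v} [Group T'] (e : T ≃* T')
    (h : Cfsg.IsEGroup T) : Cfsg.IsEGroup T' := by
  intro V hV hVe hstr
  have he : Function.Injective e.symm.toMonoidHom := e.symm.injective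
  have hs : Function.Surjective e.symm.toMonoidHom := e.symm.surjective
  have hV' : (V.map e.symm.toMonoidHom).Normal := hV.map _ hs
  have key := h _ hV' (Cfsg.Lib.Thompson.isEA_map _ hVe) (fun R hR1 hR2 hR3 => by
    obtain ⟨R, rfl⟩ : ∃ R' : Subgroup T', R = R'.map e.symm.toMonoidHom :=
      ⟨R.comap e.symm.toMonoidHom, (map_comap_eq_self_of_surjective hs R).symm⟩
    have hel := (elAct_map_iff he R V).1 ⟨hR1, hR2⟩
    have := hstr R hel.1 hel.2 (mt (le_centralizer_map_iff he V R).2 hR3)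
    rwa [card_inf_centralizer_map he, card_inf_centralizer_map he, card_map_of_injective he,
      card_map_of_injective he, ← map_commutator, card_map_of_injective he])
  intro v hv
  have := key ⟨v, hv, rfl⟩
  rw [mem_center_iff] at this ⊢
  intro g
  have h2 := this (e.symm g)
  exact e.symm.injective (by rw [map_mul, map_mul]; exact h2)

theorem hof_eq_sSup (T : Subgroup G) :
    Hof T = sSup {U | U ≤ T ∧ Cfsg.IsEGroup ↥U ∧ Jof T ≤ U} := by
  refine le_antisymm ?_ (sSup_le ?_)
  · rw [Hof, Cfsg.jHat, map_le_iff_le_comap, sSup_le_iff]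
    rintro U ⟨hU, hJU⟩
    rw [← map_le_iff_le_comap]
    refine le_sSup ⟨map_subtype_le _, isEGroup_of_equiv (U.equivMapOfInjective _ T.subtype_injective) hU, ?_⟩
    exact map_mono hJU
  · rintro U ⟨hUT, hU, hJU⟩
    rw [← map_subgroupOf_eq_of_le hUT, Hof, Cfsg.jHat]
    refine map_mono (le_sSup ⟨isEGroup_of_equiv (subgroupOfEquivOfLe hUT).symm hU, ?_⟩)
    rw [← map_le_map_iff_of_injective T.subtype_injective, map_subgroupOf_eq_of_le hUT]
    exact hJU

theorem hof_le (T : Subgroup G) : Hof T ≤ T := map_subtype_le _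

theorem map_hof {H : Type v} [Group H] {f : G →* H} (hf : Function.Injective f) (T : Subgroup G) :
    (Hof T).map f = Hof (T.map f) := by
  rw [hof_eq_sSup, hof_eq_sSup]
  refine le_antisymm ?_ (sSup_le ?_)
  · rw [map_le_iff_le_comap, sSup_le_iff]
    rintro U ⟨hUT, hU, hJU⟩
    rw [← map_le_iff_le_comap]
    refine le_sSup ⟨map_mono hUT, isEGroup_of_equiv (U.equivMapOfInjective f hf) hU, ?_⟩
    rw [← map_jof hf]; exact map_mono hJU
  · rintro U ⟨hUT, hU, hJU⟩
    obtain ⟨U, rfl⟩ : ∃ U' : Subgroup G, U = U'.map f :=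
      ⟨U.comap f, (map_comap_eq_self (hUT.trans (map_le_range _ _))).symm⟩
    rw [← map_jof hf] at hJU
    exact map_mono (le_sSup ⟨(map_le_map_iff_of_injective hf).1 hUT,
      isEGroup_of_equiv (U.equivMapOfInjective f hf).symm hU, (map_le_map_iff_of_injective hf).1 hJU⟩)

theorem normalizer_le_normalizer_hof (T : Subgroup G) :
    normalizer (T : Set G) ≤ normalizer (Hof T : Set G) := by
  intro g hg
  rw [Cfsg.Lib.Core.mem_normalizer_iff_map_conj, map_hof (MulAut.conj g).injective,
    Cfsg.Lib.Core.map_conj_eq_of_mem_normalizer hg]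

section Finite

variable [Finite G]

theorem jof_le_centralizer {T V : Subgroup G} (h : FS T V) : Jof T ≤ centralizer (V : Set G) := by
  rw [jof_eq_sSup]
  exact sSup_le fun A hA => h.centralizes_max hA.1 hA.2.1 hA.2.2

theorem maxEl_of_centralizes {T A V : Subgroup G} (hA : MaxEl T A) (hV : Cfsg.IsElementaryAbelian 2 V)
    (hVT : V ≤ T) (hc : A ≤ centralizer (V : Set G)) : V ≤ A := by
  have hB : Cfsg.IsElementaryAbelian 2 (closure ((A : Set G) ∪ V)) := by
    apply Cfsg.Lib.Thompson.isEA_closure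
    · rintro a (ha | ha) b (hb | hb)
      · exact Cfsg.Lib.Thompson.isEA_commute hA.2.1 ha hb
      · exact (mem_centralizer_iff.1 (hc ha) b hb).symm
      · exact mem_centralizer_iff.1 (hc hb) a ha
      · exact Cfsg.Lib.Thompson.isEA_commute hV ha hb
    · rintro a (ha | ha)
      · exact hA.2.1.2 a ha
      · exact hV.2 a ha
  rw [← sup_eq_closure] at hB
  have := eq_of_le_of_card_ge (le_sup_left : A ≤ A ⊔ V) (hA.2.2 _ (sup_le hA.1 hVT) hB)
  exact this ▸ le_sup_right

theorem le_jof {T V : Subgroup G} (hV : Cfsg.IsElementaryAbelian 2 V) (hVT : V ≤ T)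
    (hc : Jof T ≤ centralizer (V : Set G)) : V ≤ Jof T := by
  obtain ⟨A, hA⟩ := exists_maxEl T
  exact (maxEl_of_centralizes hA hV hVT ((maxEl_le_jof hA).trans hc)).trans (maxEl_le_jof hA)

theorem isEGroup_of_eq_jof (T U : Subgroup G) (hU : U = Jof T) : Cfsg.IsEGroup ↥U := by
  intro V hV hVe hstr
  let W := V.map U.subtype
  have hfs : FS U W := by
    refine ⟨map_subtype_le _, fun g hg => ?_, Cfsg.Lib.Thompson.isEA_map _ hVe, fun R hR hel hne => ?_⟩
    · have := (le_normalizer_map U.subtype) (mem_map_of_mem U.subtype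
        (show (⟨g, hg⟩ : ↥U) ∈ normalizer (V : Set ↥U) by rw [normalizer_eq_top_iff.2 hV]; trivial))
      exact this
    · obtain ⟨R, rfl⟩ : ∃ R' : Subgroup ↥U, R = R'.map U.subtype :=
        ⟨R.subgroupOf U, (map_subgroupOf_eq_of_le hR).symm⟩
      have hel' := (elAct_map_iff U.subtype_injective R V).1 hel
      have := (hstr R hel'.1 hel'.2 (mt (le_centralizer_map_iff U.subtype_injective V R).2 hne)).1
      rw [card_inf_centralizer_map U.subtype_injective, card_inf_centralizer_map U.subtype_injective,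
        card_map_of_injective U.subtype_injective, card_map_of_injective U.subtype_injective]
      exact this
  have hc : U ≤ centralizer (W : Set G) := by
    intro g hg
    have hg' : g ∈ sSup {A | MaxEl T A} := by rw [← jof_eq_sSup, ← hU]; exact hg
    refine (sSup_le fun A hA => hfs.centralizes_max ((maxEl_le_jof hA).trans hU.ge) hA.2.1 fun B hB => ?_ :
      sSup {A | MaxEl T A} ≤ centralizer (W : Set G)) hg'
    exact hA.2.2 B (hB.trans (hU.le.trans (jof_le T)))
  intro v hv
  rw [mem_center_iff]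
  exact fun g => Subtype.ext (mem_centralizer_iff.1 (hc g.2) v ⟨v, hv, rfl⟩).symm

theorem isEGroup_jof (T : Subgroup G) : Cfsg.IsEGroup ↥(Jof T) := isEGroup_of_eq_jof T _ rfl

theorem jof_le_hof (T : Subgroup G) : Jof T ≤ Hof T := by
  rw [hof_eq_sSup T]
  exact le_sSup ⟨jof_le T, isEGroup_jof T, le_rfl⟩

theorem hof_eq_of_le {T T' : Subgroup G} (hle : T' ≤ T) (hH : Hof T ≤ T') : Hof T' = Hof T := by
  have hJ := jof_eq_of_le hle ((jof_le_hof T).trans hH)
  rw [hof_eq_sSup T', hof_eq_sSup T, hJ]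
  refine le_antisymm (sSup_le_sSup fun U hU => ⟨hU.1.trans hle, hU.2⟩) (sSup_le ?_)
  rintro U hU
  refine le_sSup ⟨(le_sSup hU).trans ((hof_eq_sSup T).ge.trans hH), hU.2⟩

theorem hof_eq_self {T : Subgroup G} (h : Cfsg.IsEGroup ↥T) : Hof T = T := by
  refine le_antisymm (hof_le T) ?_
  rw [hof_eq_sSup]
  exact le_sSup ⟨le_rfl, h, jof_le T⟩

/-- `Ĵ` centralizes every strict subgroup. -/
theorem hof_le_centralizer {T V : Subgroup G} (h : FS T V) (hd : Dual T V) :
    Hof T ≤ centralizer (V : Set G) := by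
  rw [hof_eq_sSup]
  refine sSup_le ?_
  rintro U ⟨hUT, hU, hJU⟩
  have hVU : V ≤ U := (le_jof h.elem h.le (jof_le_centralizer h)).trans hJU
  have hi := U.subtype_injective
  have hVm : (V.subgroupOf U).map U.subtype = V := map_subgroupOf_eq_of_le hVU
  have key := hU (V.subgroupOf U)
    ((normal_subgroupOf_iff_le_normalizer hVU).2 (hUT.trans h.norm))
    (Cfsg.Lib.Thompson.isEA_subgroupOf h.elem U) (fun R hR1 hR2 hR3 => by
      have hel : ElAct (R.map U.subtype) V := by
        rw [← hVm]; exact (elAct_map_iff hi R _).2 ⟨hR1, hR2⟩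
      have hne : ¬ R.map U.subtype ≤ centralizer (V : Set G) := by
        rw [← hVm, le_centralizer_map_iff hi]; exact hR3
      have hRT : R.map U.subtype ≤ T := (map_subtype_le _).trans hUT
      have h1 := h.strict _ hRT hel hne
      have h2 := hd _ hRT hel hne
      rw [← hVm, card_inf_centralizer_map hi, card_inf_centralizer_map hi, card_map_of_injective hi,
        card_map_of_injective hi] at h1
      rw [← hVm, card_inf_centralizer_map hi, card_map_of_injective hi, ← map_commutator,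
        card_map_of_injective hi] at h2
      exact ⟨h1, h2⟩)
  intro g hg
  refine mem_centralizer_iff.2 fun v hv => ?_
  exact (congrArg Subtype.val (mem_center_iff.1 (key (show (⟨v, hVU hv⟩ : ↥U) ∈ V.subgroupOf U from hv))
    ⟨g, hg⟩)).symm

theorem exists_strict {T : Subgroup G} (h : ¬ Cfsg.IsEGroup ↥T) :
    ∃ V, FS T V ∧ Dual T V ∧ ¬ T ≤ centralizer (V : Set G) := by
  rw [Cfsg.IsEGroup] at h
  push Not at h
  obtain ⟨V, hV, hVe, hstr, hne⟩ := h
  have hi := T.subtype_injective
  refine ⟨V.map T.subtype, ⟨map_subtype_le _, fun g hg => ?_, Cfsg.Lib.Thompson.isEA_map _ hVe,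
    fun R hR hel hne' => ?_⟩, fun R hR hel hne' => ?_, fun hc => hne fun v hv => ?_⟩
  · exact (le_normalizer_map T.subtype) (mem_map_of_mem T.subtype
      (show (⟨g, hg⟩ : ↥T) ∈ normalizer (V : Set ↥T) by rw [normalizer_eq_top_iff.2 hV]; trivial))
  · obtain ⟨R, rfl⟩ : ∃ R' : Subgroup ↥T, R = R'.map T.subtype :=
      ⟨R.subgroupOf T, (map_subgroupOf_eq_of_le hR).symm⟩
    have hel' := (elAct_map_iff hi R V).1 hel
    rw [card_inf_centralizer_map hi, card_inf_centralizer_map hi, card_map_of_injective hi,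
      card_map_of_injective hi]
    exact (hstr R hel'.1 hel'.2 (mt (le_centralizer_map_iff hi V R).2 hne')).1
  · obtain ⟨R, rfl⟩ : ∃ R' : Subgroup ↥T, R = R'.map T.subtype :=
      ⟨R.subgroupOf T, (map_subgroupOf_eq_of_le hR).symm⟩
    have hel' := (elAct_map_iff hi R V).1 hel
    rw [card_inf_centralizer_map hi, card_map_of_injective hi, ← map_commutator,
      card_map_of_injective hi]
    exact (hstr R hel'.1 hel'.2 (mt (le_centralizer_map_iff hi V R).2 hne')).2
  · rw [mem_center_iff]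
    exact fun g => Subtype.ext (mem_centralizer_iff.1 (hc g.2) v ⟨v, hv, rfl⟩).symm

end Finite

end Cfsg.Lib.Local.Triple
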