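import Cfsg.Agent.Lib.Local.Triple.Fit
import Cfsg.Agent.Lib.Fusion.Basic

/-!
Actions on sections inside a normal `2`-subgroup and the bound on a chief section on which
`O²` acts nontrivially.
-/

set_option autoImplicit false

universe u

open scoped commutatorElement

namespace Cfsg.Lib.Local.Triple

open Subgroup Cfsg.Lib.Core

variable {G : Type u} [Group G]

/-- The elements acting trivially on `W` modulo `Y`. -/
def act (Y : Subgroup G) [Y.Normal] (W : Subgroup G) : Subgroup G :=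
  (centralizer ((W.map (QuotientGroup.mk' Y) : Subgroup (G ⧸ Y)) : Set (G ⧸ Y))).comap (QuotientGroup.mk' Y)

instance act_normal (Y : Subgroup G) [Y.Normal] (W : Subgroup G) [hW : W.Normal] : (act Y W).Normal := by
  haveI := hW.map (QuotientGroup.mk' Y) (QuotientGroup.mk'_surjective Y)
  unfold act
  infer_instance

theorem mem_act {Y : Subgroup G} [Y.Normal] {W : Subgroup G} {g : G} :
    g ∈ act Y W ↔ ∀ w ∈ W, ⁅w, g⁆ ∈ Y := by
  rw [act, mem_comap, mem_centralizer_iff]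
  constructor
  · intro h w hw
    rw [← QuotientGroup.eq_one_iff (N := Y), ← QuotientGroup.mk'_apply, map_commutatorElement,
      commutatorElement_eq_one_iff_mul_comm]
    exact h _ ⟨w, hw, rfl⟩
  · rintro h _ ⟨w, hw, rfl⟩
    rw [← commutatorElement_eq_one_iff_mul_comm, ← map_commutatorElement]
    exact (QuotientGroup.eq_one_iff _).2 (h w hw)

theorem le_act_iff {Y : Subgroup G} [Y.Normal] {W H : Subgroup G} : H ≤ act Y W ↔ ⁅W, H⁆ ≤ Y :=
  ⟨fun h => commutator_le.2 fun w hw g hg => mem_act.1 (h hg) w hw,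
    fun h _ hg => mem_act.2 fun _ hw => h (commutator_mem_commutator hw hg)⟩

theorem le_act_comm {Y : Subgroup G} [Y.Normal] {W H : Subgroup G} : H ≤ act Y W ↔ W ≤ act Y H := by
  rw [le_act_iff, le_act_iff, commutator_comm]

theorem le_act_self {Y : Subgroup G} [Y.Normal] (W : Subgroup G) : Y ≤ act Y W :=
  le_act_iff.2 (commutator_le_right W Y)

theorem rotate_mod {A B C L : Subgroup G} [L.Normal] (h1 : ⁅⁅B, C⁆, A⁆ ≤ L) (h2 : ⁅⁅C, A⁆, B⁆ ≤ L) :
    ⁅⁅A, B⁆, C⁆ ≤ L := by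
  have key : ∀ K : Subgroup G, K ≤ L ↔ K.map (QuotientGroup.mk' L) = ⊥ := fun K => by
    rw [Subgroup.map_eq_bot_iff, QuotientGroup.ker_mk']
  rw [key, map_commutator, map_commutator] at h1 h2 ⊢
  exact commutator_commutator_eq_bot_of_rotate h1 h2

theorem comm_mul_left {a b c : G} : ⁅a * b, c⁆ = a * ⁅b, c⁆ * a⁻¹ * ⁅a, c⁆ := by
  simp only [commutatorElement_def]; group

theorem comm_mul_right {a b c : G} : ⁅a, b * c⁆ = ⁅a, b⁆ * (b * ⁅a, c⁆ * b⁻¹) := by
  simp only [commutatorElement_def]; group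

variable [Finite G]



theorem card_map_mul (H Y : Subgroup G) [Y.Normal] :
    Nat.card ↥(H.map (QuotientGroup.mk' Y)) * Nat.card ↥(H ⊓ Y) = Nat.card H := by
  have h1 := relIndex_ker (K := H) (QuotientGroup.mk' Y)
  rw [QuotientGroup.ker_mk'] at h1
  rw [← h1, ← inf_relIndex_left H Y, mul_comm]
  exact card_mul_relIndex inf_le_left

theorem mem_residual_of_odd {y : G} (hy : Odd (orderOf y)) : y ∈ Cfsg.pResidual 2 G :=
  Cfsg.Lib.Fusion.mem_pResidual_of_coprime (Nat.coprime_two_right.2 hy)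

theorem comm_residual_le {W Y : Subgroup G} [Y.Normal]
    (h : ∀ y : G, Odd (orderOf y) → ∀ w ∈ W, ⁅w, y⁆ ∈ Y) : ⁅W, Cfsg.pResidual 2 G⁆ ≤ Y := by
  refine le_act_iff.1 ?_
  rw [Cfsg.pResidual, closure_le]
  exact fun y hy => mem_act.2 (h y (Nat.coprime_two_right.1 hy))

theorem coprime_zpowers {U : Subgroup G} (hU : IsPGroup 2 ↥U) {y : G} (hy : Odd (orderOf y)) :
    (Nat.card (zpowers y)).Coprime (Nat.card U) := by
  haveI : Fact (Nat.Prime 2) := ⟨Nat.prime_two⟩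
  obtain ⟨k, hk⟩ := hU.exists_card_eq
  rw [Nat.card_zpowers, hk]
  exact (Nat.coprime_two_right.2 hy).pow_right k

theorem solv_zpowers (y : G) (U : Subgroup G) :
    Group.IsSolvable ↥(zpowers y) ∨ Group.IsSolvable ↥U :=
  Or.inl (Group.isSolvable_of_comm fun a b => mul_comm' a b)

/-- `O²` stabilizing a chain of a `2`-group is trivial on it. -/
theorem triv_trans {W Y Z : Subgroup G} [W.Normal] [Y.Normal] [Z.Normal] (hW : IsPGroup 2 ↥W)
    (hYW : Y ≤ W) (h1 : ⁅W, Cfsg.pResidual 2 G⁆ ≤ Y) (h2 : ⁅Y, Cfsg.pResidual 2 G⁆ ≤ Z) :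
    ⁅W, Cfsg.pResidual 2 G⁆ ≤ Z := by
  refine comm_residual_le fun y hy w hw => ?_
  have hyO := mem_residual_of_odd hy
  obtain ⟨n, hn, c, hc, rfl⟩ := Cfsg.Lib.Coprime.exists_mul_centralizer_of_commutator_mem
    (A := zpowers y) (G := W) le_normalizer_of_normal (coprime_zpowers hW hy) (solv_zpowers y W) hYW
    le_normalizer_of_normal hw fun a ha => h1 (commutator_mem_commutator hw ((zpowers_le).2 hyO ha))
  have hcy : ⁅c, y⁆ = 1 := commutatorElement_eq_one_iff_mul_comm.2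
    (mem_centralizer_iff.1 hc.2 y (mem_zpowers y)).symm
  rw [comm_mul_left, hcy, mul_one, mul_inv_cancel, one_mul]
  exact h2 (commutator_mem_commutator hn hyO)

/-- No normal subgroup lies strictly between. -/
def Chief (Y W : Subgroup G) : Prop :=
  ∀ M : Subgroup G, M.Normal → Y ≤ M → M ≤ W → M = Y ∨ M = W

theorem exists_min_normal {B T : Subgroup G} (hT : T.Normal) (hlt : B < T) :
    ∃ W : Subgroup G, W.Normal ∧ B < W ∧ W ≤ T ∧ Chief B W := by
  obtain ⟨W, ⟨hWn, hBW, hWT⟩, hmin⟩ := wellFounded_lt.has_min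
    {W : Subgroup G | W.Normal ∧ B < W ∧ W ≤ T} ⟨T, hT, hlt, le_rfl⟩
  refine ⟨W, hWn, hBW, hWT, fun M hM hBM hMW => ?_⟩
  rcases hBM.lt_or_eq with h | h
  · exact Or.inr (hMW.lt_or_eq.resolve_left (hmin M ⟨hM, h, hMW.trans hWT⟩))
  · exact Or.inl h.symm

theorem exists_max_normal {B W : Subgroup G} (hB : B.Normal) (hlt : B < W) :
    ∃ Y : Subgroup G, Y.Normal ∧ B ≤ Y ∧ Y < W ∧ Chief Y W := by
  obtain ⟨Y, ⟨hYn, hBY, hYW⟩, hmax⟩ := wellFounded_gt.has_min
    {Y : Subgroup G | Y.Normal ∧ B ≤ Y ∧ Y < W} ⟨B, hB, le_rfl, hlt⟩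
  refine ⟨Y, hYn, hBY, hYW, fun M hM hYM hMW => ?_⟩
  rcases hMW.lt_or_eq with h | h
  · exact Or.inl (hYM.lt_or_eq.resolve_left (hmax M ⟨hM, hBY.trans hYM, h⟩)).symm
  · exact Or.inr h

theorem exists_section {B T : Subgroup G} [B.Normal] [T.Normal] (hT : IsPGroup 2 ↥T) (hBT : B ≤ T)
    (h : ¬ ⁅T, Cfsg.pResidual 2 G⁆ ≤ B) :
    ∃ Y W : Subgroup G, ∃ _ : Y.Normal, W.Normal ∧ B ≤ Y ∧ Y < W ∧ W ≤ T ∧ Chief Y W ∧
      ¬ ⁅W, Cfsg.pResidual 2 G⁆ ≤ Y := by
  obtain ⟨W, ⟨hWn, hBW, hWT, hW⟩, hmin⟩ := wellFounded_lt.has_min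
    {W : Subgroup G | W.Normal ∧ B ≤ W ∧ W ≤ T ∧ ¬ ⁅W, Cfsg.pResidual 2 G⁆ ≤ B}
    ⟨T, inferInstance, hBT, le_rfl, h⟩
  haveI := hWn
  have hne : B < W := lt_of_le_of_ne hBW fun e => hW ((commutator_le_left W _).trans e.ge)
  obtain ⟨Y, hYn, hBY, hYW, hch⟩ := exists_max_normal (B := B) inferInstance hne
  haveI := hYn
  refine ⟨Y, W, hYn, hWn, hBY, hYW, hWT, hch, fun hYO => hW (triv_trans (hT.to_le hWT) hYW.le hYO ?_)⟩
  by_contra hcon
  exact hmin Y ⟨hYn, hBY, hYW.le.trans hWT, hcon⟩ hYW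

/-- A point of a section fixed by a Sylow `2`-subgroup. -/
theorem exists_fixed (S : Sylow 2 G) {Y W : Subgroup G} [Y.Normal] [W.Normal]
    (hW : IsPGroup 2 ↥W) (hlt : Y < W) :
    ∃ t ∈ W, t ∉ Y ∧ ∀ s ∈ (S : Subgroup G), ⁅t, s⁆ ∈ Y := by
  haveI : Fact (Nat.Prime 2) := ⟨Nat.prime_two⟩
  set π := QuotientGroup.mk' Y
  set S' := ((S.mapSurjective (QuotientGroup.mk'_surjective Y) : Sylow 2 (G ⧸ Y)) : Subgroup (G ⧸ Y))
  have hW' : W.map π ≤ S' := map_mono ((le_pCore' inferInstance hW).trans (pCore_le_sylow S))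
  haveI : ((W.map π).subgroupOf S').Normal := (normal_subgroupOf_iff_le_normalizer hW').2
    (by
      haveI := (inferInstance : W.Normal).map π (QuotientGroup.mk'_surjective Y)
      exact le_normalizer_of_normal)
  have hne : (W.map π).subgroupOf S' ≠ ⊥ := fun e => hlt.not_ge (by
    have h2 : W.map π = ⊥ := by
      rw [← map_subgroupOf_eq_of_le hW', e, Subgroup.map_bot]
    rwa [Subgroup.map_eq_bot_iff, QuotientGroup.ker_mk'] at h2)
  obtain ⟨z, hz, hz1⟩ := ((W.map π).subgroupOf S' ⊓ center ↥S').bot_or_exists_ne_one.resolve_left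
    (Cfsg.Lib.PGroup.inf_center_ne_bot (S.mapSurjective (QuotientGroup.mk'_surjective Y)).2 hne)
  obtain ⟨t, ht, hte⟩ : ∃ t ∈ W, π t = (z : G ⧸ Y) := hz.1
  refine ⟨t, ht, fun htY => hz1 (Subtype.ext (hte.symm.trans ((QuotientGroup.eq_one_iff t).2 htY))), fun s hs => ?_⟩
  rw [← QuotientGroup.eq_one_iff (N := Y), ← QuotientGroup.mk'_apply, map_commutatorElement,
    commutatorElement_eq_one_iff_mul_comm, hte]
  exact (congrArg Subtype.val (mem_center_iff.1 hz.2 ⟨π s, ⟨s, hs, rfl⟩⟩)).symm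

/-- A normal subgroup covered by a Sylow `2`-subgroup and the kernel acts trivially on a chief
section inside a `2`-group. -/
theorem normal_le_act (S : Sylow 2 G) {Y W N : Subgroup G} [Y.Normal] [W.Normal] [N.Normal]
    (hW : IsPGroup 2 ↥W) (hlt : Y < W) (hch : Chief Y W)
    (hN : ∀ n ∈ N, ∃ s ∈ (S : Subgroup G), s⁻¹ * n ∈ act Y W) : N ≤ act Y W := by
  obtain ⟨t, htW, htY, ht⟩ := exists_fixed S hW hlt
  have htN : t ∈ W ⊓ act Y N := by
    refine ⟨htW, mem_act.2 fun n hn => ?_⟩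
    obtain ⟨s, hs, hsn⟩ := hN n hn
    have h1 := ht s hs
    have h2 := mem_act.1 hsn t htW
    rw [← inv_mem_iff, commutatorElement_inv, show n = s * (s⁻¹ * n) by group, comm_mul_right]
    exact mul_mem h1 ((inferInstance : Y.Normal).conj_mem _ h2 s)
  rcases hch (W ⊓ act Y N) inferInstance (le_inf hlt.le (le_act_self N)) inf_le_left with h | h
  · exact absurd (h ▸ htN) htY
  · exact le_act_comm.1 (inf_eq_left.1 h)

theorem residual_le_of_sup_eq_top (S : Sylow 2 G) {N : Subgroup G} [N.Normal]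
    (h : N ⊔ (S : Subgroup G) = ⊤) : Cfsg.pResidual 2 G ≤ N := by
  haveI : Fact (Nat.Prime 2) := ⟨Nat.prime_two⟩
  refine Cfsg.Lib.Fusion.pResidual_le_of_isPGroup_quotient N (S.2.of_surjective
    ((QuotientGroup.mk' N).comp (S : Subgroup G).subtype) fun x => ?_)
  obtain ⟨g, rfl⟩ := QuotientGroup.mk'_surjective N x
  have hg : g ∈ N ⊔ (S : Subgroup G) := h ▸ mem_top g
  rw [mem_sup_of_normal_left] at hg
  obtain ⟨n, hn, s, hs, rfl⟩ := hg
  refine ⟨⟨s, hs⟩, ?_⟩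
  simp only [MonoidHom.comp_apply, coe_subtype, map_mul]
  rw [show QuotientGroup.mk' N n = 1 from (QuotientGroup.eq_one_iff n).2 hn, one_mul]

/-- The bound on a chief section inside an elementary abelian normal subgroup. -/
theorem section_bound (hyp : Hyp G) (S : Sylow 2 G) {Q : Subgroup G}
    (hkey : ∀ N : Subgroup G, N.Normal → N ⊔ (S : Subgroup G) ≠ ⊤ → (S : Subgroup G) ⊓ N ≤ Q)
    {A Y W : Subgroup G} [Y.Normal] [W.Normal] (hWe : Cfsg.IsElementaryAbelian 2 W) (hlt : Y < W)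
    (hch : Chief Y W) (hWO : ¬ ⁅W, Cfsg.pResidual 2 G⁆ ≤ Y) (hAS : A ≤ (S : Subgroup G))
    (hA : Cfsg.IsElementaryAbelian 2 A) :
    Nat.card A ^ 2 * Nat.card ↥(W ⊓ centralizer (A : Set G)) * Nat.card Y ≤
      Nat.card W * Nat.card ↥(A ⊓ Q) ^ 2 * Nat.card ↥(Y ⊓ centralizer (A : Set G)) := by
  haveI : Fact (Nat.Prime 2) := ⟨Nat.prime_two⟩
  set π := QuotientGroup.mk' Y with hπ
  have hπs : Function.Surjective π := QuotientGroup.mk'_surjective Y
  set V := W.map π with hV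
  haveI : V.Normal := (inferInstance : W.Normal).map π hπs
  have hWp : IsPGroup 2 ↥W := fun w => ⟨1, Subtype.ext (by simpa using hWe.2 w.1 w.2)⟩
  have hO : Cfsg.pCore 2 ((G ⧸ Y) ⧸ centralizer (V : Set (G ⧸ Y))) = ⊥ := by
    set f := (QuotientGroup.mk' (centralizer (V : Set (G ⧸ Y)))).comp π with hf
    have hfs : Function.Surjective f := (QuotientGroup.mk'_surjective _).comp hπs
    have hker : f.ker = act Y W := by
      rw [hf, ← MonoidHom.comap_ker, QuotientGroup.ker_mk']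
      rfl
    set N := (Cfsg.pCore 2 ((G ⧸ Y) ⧸ centralizer (V : Set (G ⧸ Y)))).comap f
    have hle : N ≤ act Y W := normal_le_act S hWp hlt hch fun n hn => by
      obtain ⟨s, hs, hsn⟩ := pCore_le_sylow (S.mapSurjective hfs)
        (show f n ∈ Cfsg.pCore 2 ((G ⧸ Y) ⧸ centralizer (V : Set (G ⧸ Y))) from hn)
      refine ⟨s, hs, ?_⟩
      rw [← hker, MonoidHom.mem_ker, map_mul, map_inv]
      exact inv_mul_eq_one.2 hsn
    rw [← map_comap_eq_self_of_surjective hfs (Cfsg.pCore 2 _), Subgroup.map_eq_bot_iff, hker]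
    exact hle
  have hVe : Cfsg.IsElementaryAbelian 2 V := Cfsg.Lib.Thompson.isEA_map _ hWe
  have hb := (bound_act (fun h => hyp.free (Cfsg.Lib.FusionSys.involves_of_surjective hπs h))
    (hyp.fac.of_surjective π hπs) V hVe hO
    (ElAct.of_elementary (V := V) (Cfsg.Lib.Thompson.isEA_map π hA))).1
  have e1 := card_map_mul A Y
  have e2 := card_map_mul W Y
  rw [inf_eq_right.2 hlt.le] at e2
  have e3 := card_map_mul (A ⊓ act Y W) Y
  rw [inf_assoc, inf_eq_right.2 (le_act_self W)] at e3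
  have e4 := card_map_mul (W ⊓ centralizer (A : Set G)) Y
  rw [inf_right_comm, inf_eq_right.2 hlt.le] at e4
  have h3 : A.map π ⊓ centralizer (V : Set (G ⧸ Y)) = (A ⊓ act Y W).map π := by
    refine le_antisymm ?_ ?_
    · rintro _ ⟨⟨x, hx, rfl⟩, hc⟩
      exact ⟨x, ⟨hx, hc⟩, rfl⟩
    · rintro _ ⟨x, ⟨hx, hc⟩, rfl⟩
      exact ⟨⟨x, hx, rfl⟩, hc⟩
  have h4 : (W ⊓ centralizer (A : Set G)).map π ≤ V ⊓ centralizer ((A.map π : Subgroup (G ⧸ Y)) : Set (G ⧸ Y)) := by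
    rintro _ ⟨w, ⟨hw, hc⟩, rfl⟩
    refine ⟨⟨w, hw, rfl⟩, mem_centralizer_iff.2 ?_⟩
    rintro _ ⟨a, ha, rfl⟩
    rw [← map_mul, ← map_mul, mem_centralizer_iff.1 hc a ha]
  have h5 : A ⊓ act Y W ≤ A ⊓ Q := by
    refine le_inf inf_le_left ((inf_le_inf_right _ hAS).trans (hkey _ inferInstance fun e => ?_))
    exact hWO (le_act_iff.1 (residual_le_of_sup_eq_top S e))
  rw [h3] at hb
  set j := Nat.card ↥(A ⊓ Y)
  set cY := Nat.card ↥(Y ⊓ centralizer (A : Set G))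
  calc Nat.card A ^ 2 * Nat.card ↥(W ⊓ centralizer (A : Set G)) * Nat.card Y
      = Nat.card ↥(A.map π) ^ 2 * Nat.card ↥((W ⊓ centralizer (A : Set G)).map π) *
          (j ^ 2 * cY * Nat.card Y) := by
        rw [← e1, ← e4]; ring
    _ ≤ Nat.card ↥(A.map π) ^ 2 *
          Nat.card ↥(V ⊓ centralizer ((A.map π : Subgroup (G ⧸ Y)) : Set (G ⧸ Y))) * (j ^ 2 * cY * Nat.card Y) :=
        Nat.mul_le_mul_right _ (Nat.mul_le_mul_left _ (card_le_of_le h4))
    _ ≤ Nat.card V * Nat.card ↥((A ⊓ act Y W).map π) ^ 2 * (j ^ 2 * cY * Nat.card Y) :=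
        Nat.mul_le_mul_right _ hb
    _ = Nat.card W * Nat.card ↥(A ⊓ act Y W) ^ 2 * cY := by
        rw [← e2, ← e3]; ring
    _ ≤ _ := Nat.mul_le_mul_right _ (Nat.mul_le_mul_left _ (Nat.pow_le_pow_left (card_le_of_le h5) _))

end Cfsg.Lib.Local.Triple
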