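import Cfsg.Agent.Lib.Thompson.Transport
import Cfsg.Agent.Lib.Core.Basic
import Cfsg.Prelude.Def_LocalEven

/-!
Strict normal elementary abelian subgroups of a `2`-group: no subgroup acting on them as an
elementary abelian group has `|V / C_V(R)|² ≤ |R / C_R(V)|³`.
-/

set_option autoImplicit false

universe u v

open scoped commutatorElement

namespace Cfsg.Lib.Local.Triple

open Subgroup

variable {G : Type u} [Group G]

/-- `R` acts on `V` as an elementary abelian group. -/
def ElAct (R V : Subgroup G) : Prop :=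
  ⁅R, R⁆ ≤ centralizer (V : Set G) ∧ ∀ r ∈ R, r ^ 2 ∈ centralizer (V : Set G)

/-- `V` is a normal elementary abelian subgroup of `T` with the strict inequality. -/
structure FS (T V : Subgroup G) : Prop where
  le : V ≤ T
  norm : T ≤ normalizer (V : Set G)
  elem : Cfsg.IsElementaryAbelian 2 V
  strict : ∀ R ≤ T, ElAct R V → ¬ R ≤ centralizer (V : Set G) →
    Nat.card R ^ 3 * Nat.card ↥(V ⊓ centralizer (R : Set G)) ^ 2 <
      Nat.card V ^ 2 * Nat.card ↥(R ⊓ centralizer (V : Set G)) ^ 3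

/-- The second inequality. -/
def Dual (T V : Subgroup G) : Prop :=
  ∀ R ≤ T, ElAct R V → ¬ R ≤ centralizer (V : Set G) →
    Nat.card R < Nat.card ↥⁅V, R⁆ * Nat.card ↥(R ⊓ centralizer (V : Set G))

theorem ElAct.mono {R R' V : Subgroup G} (h : ElAct R V) (hle : R' ≤ R) : ElAct R' V :=
  ⟨(commutator_mono hle hle).trans h.1, fun r hr => h.2 r (hle hr)⟩

theorem ElAct.anti {R V V' : Subgroup G} (h : ElAct R V) (hle : V' ≤ V) : ElAct R V' :=
  ⟨h.1.trans (centralizer_le hle), fun r hr => centralizer_le hle (h.2 r hr)⟩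

theorem ElAct.of_elementary {R V : Subgroup G} (hR : Cfsg.IsElementaryAbelian 2 R) : ElAct R V := by
  refine ⟨?_, fun r hr => ?_⟩
  · rw [commutator_le]
    intro a ha b hb
    rw [commutatorElement_eq_one_iff_mul_comm.2 (Cfsg.Lib.Thompson.isEA_commute hR ha hb).eq]
    exact one_mem _
  · rw [hR.2 r hr]; exact one_mem _

theorem inf_centralizer_map {H : Type v} [Group H] {f : G →* H} (hf : Function.Injective f)
    (V R : Subgroup G) :
    (V ⊓ centralizer (R : Set G)).map f = V.map f ⊓ centralizer ((R.map f : Subgroup H) : Set H) := by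
  refine le_antisymm ?_ ?_
  · rintro _ ⟨z, hz, rfl⟩
    obtain ⟨hz1, hz2⟩ := mem_inf.1 hz
    refine mem_inf.2 ⟨⟨z, hz1, rfl⟩, mem_centralizer_iff.2 ?_⟩
    rintro _ ⟨r, hr, rfl⟩
    rw [← map_mul, ← map_mul, mem_centralizer_iff.1 hz2 r hr]
  · rintro _ ⟨⟨z, hz, rfl⟩, hc⟩
    refine ⟨z, mem_inf.2 ⟨hz, mem_centralizer_iff.2 fun r hr => hf ?_⟩, rfl⟩
    rw [map_mul, map_mul]
    exact mem_centralizer_iff.1 hc _ ⟨r, hr, rfl⟩

theorem card_inf_centralizer_map {H : Type v} [Group H] {f : G →* H} (hf : Function.Injective f)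
    (V R : Subgroup G) : Nat.card ↥(V.map f ⊓ centralizer ((R.map f : Subgroup H) : Set H)) =
      Nat.card ↥(V ⊓ centralizer (R : Set G)) := by
  rw [← inf_centralizer_map hf, card_map_of_injective hf]

theorem le_centralizer_map_iff {H : Type v} [Group H] {f : G →* H} (hf : Function.Injective f)
    (V R : Subgroup G) :
    R.map f ≤ centralizer ((V.map f : Subgroup H) : Set H) ↔ R ≤ centralizer (V : Set G) := by
  rw [← inf_eq_left, ← inf_centralizer_map hf, (map_injective hf).eq_iff, inf_eq_left]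

theorem mem_centralizer_map_iff {H : Type v} [Group H] {f : G →* H} (hf : Function.Injective f)
    (V : Subgroup G) (g : G) :
    f g ∈ centralizer ((V.map f : Subgroup H) : Set H) ↔ g ∈ centralizer (V : Set G) := by
  rw [mem_centralizer_iff, mem_centralizer_iff]
  constructor
  · intro h v hv
    refine hf ?_
    rw [map_mul, map_mul]
    exact h _ ⟨v, hv, rfl⟩
  · rintro h _ ⟨v, hv, rfl⟩
    rw [← map_mul, ← map_mul, h v hv]

theorem elAct_map_iff {H : Type v} [Group H] {f : G →* H} (hf : Function.Injective f)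
    (R V : Subgroup G) : ElAct (R.map f) (V.map f) ↔ ElAct R V := by
  unfold ElAct
  rw [← map_commutator, le_centralizer_map_iff hf]
  refine and_congr_right fun _ => ⟨fun h r hr => ?_, ?_⟩
  · rw [← mem_centralizer_map_iff hf, map_pow]
    exact h _ ⟨r, hr, rfl⟩
  · rintro h _ ⟨r, hr, rfl⟩
    rw [← map_pow, mem_centralizer_map_iff hf]
    exact h r hr

theorem isEA_of_map {H : Type v} [Group H] {f : G →* H} (hf : Function.Injective f) {A : Subgroup G}
    {p : ℕ} (hA : Cfsg.IsElementaryAbelian p (A.map f)) : Cfsg.IsElementaryAbelian p A := by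
  refine ⟨⟨⟨fun a b => Subtype.ext (hf ?_)⟩⟩, fun a ha => hf ?_⟩
  · simp only [Subgroup.coe_mul, map_mul]
    exact (Cfsg.Lib.Thompson.isEA_commute hA ⟨a.1, a.2, rfl⟩ ⟨b.1, b.2, rfl⟩).eq
  · rw [map_pow, map_one]
    exact hA.2 _ ⟨a, ha, rfl⟩

theorem fs_map_iff {H : Type v} [Group H] {f : G →* H} (hf : Function.Injective f) (T V : Subgroup G) :
    FS (T.map f) (V.map f) ↔ FS T V := by
  constructor
  · intro h
    refine ⟨(map_le_map_iff_of_injective hf).1 h.le, fun t ht => ?_, isEA_of_map hf h.elem, ?_⟩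
    · rw [mem_normalizer_iff]
      intro v
      have := mem_normalizer_iff.1 (h.norm ⟨t, ht, rfl⟩) (f v)
      rw [← map_inv, ← map_mul, ← map_mul, mem_map_iff_mem hf, mem_map_iff_mem hf] at this
      exact this
    · intro R hR hel hne
      have := h.strict (R.map f) (map_mono hR) ((elAct_map_iff hf R V).2 hel)
        (mt (le_centralizer_map_iff hf V R).1 hne)
      rwa [card_inf_centralizer_map hf, card_inf_centralizer_map hf, card_map_of_injective hf,
        card_map_of_injective hf] at this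
  · intro h
    refine ⟨map_mono h.le, ?_, Cfsg.Lib.Thompson.isEA_map f h.elem, ?_⟩
    · exact (map_mono h.norm).trans (le_normalizer_map f)
    · intro R hR hel hne
      obtain ⟨R, rfl⟩ : ∃ R' : Subgroup G, R = R'.map f :=
        ⟨R.comap f, (map_comap_eq_self (hR.trans (map_le_range _ _))).symm⟩
      have := h.strict R ((map_le_map_iff_of_injective hf).1 hR) ((elAct_map_iff hf R V).1 hel)
        (mt (le_centralizer_map_iff hf V R).2 hne)
      rwa [card_inf_centralizer_map hf, card_inf_centralizer_map hf, card_map_of_injective hf,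
        card_map_of_injective hf]

theorem FS.conj {T V : Subgroup G} (h : FS T V) (g : G) :
    FS (T.map (MulAut.conj g).toMonoidHom) (V.map (MulAut.conj g).toMonoidHom) :=
  (fs_map_iff (MulAut.conj g).injective T V).2 h

theorem FS.subgroupOf {T V M : Subgroup G} (h : FS T V) (hT : T ≤ M) :
    FS (T.subgroupOf M) (V.subgroupOf M) := by
  rw [← fs_map_iff M.subtype_injective, map_subgroupOf_eq_of_le hT,
    map_subgroupOf_eq_of_le (h.le.trans hT)]
  exact h

theorem FS.mono {T T' V : Subgroup G} (h : FS T V) (hle : T' ≤ T) (hV : V ≤ T') : FS T' V :=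
  ⟨hV, hle.trans h.norm, h.elem, fun R hR => h.strict R (hR.trans hle)⟩

section Finite

variable [Finite G]

theorem card_mul_le {Y B Z : Subgroup G} (hY : Y ≤ Z) (hB : B ≤ Z) :
    Nat.card Y * Nat.card B ≤ Nat.card Z * Nat.card ↥(Y ⊓ B) := by
  have h1 : Nat.card ↥(Y ⊓ B) * (Y ⊓ B).relIndex B = Nat.card B :=
    Cfsg.Lib.Core.card_mul_relIndex inf_le_right
  have h2 : Nat.card Y * Y.relIndex Z = Nat.card Z := Cfsg.Lib.Core.card_mul_relIndex hY
  have h3 : (Y ⊓ B).relIndex B ≤ Y.relIndex Z := by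
    rw [inf_relIndex_right]
    exact relIndex_le_of_le_right hB (show Y.relIndex Z ≠ 0 from index_ne_zero_of_finite)
  calc Nat.card Y * Nat.card B = Nat.card Y * (Y ⊓ B).relIndex B * Nat.card ↥(Y ⊓ B) := by
        rw [← h1]; ring
    _ ≤ Nat.card Y * Y.relIndex Z * Nat.card ↥(Y ⊓ B) :=
        Nat.mul_le_mul_right _ (Nat.mul_le_mul_left _ h3)
    _ = _ := by rw [h2]

/-- The inequality passes from a generating family. -/
theorem strict_of_generated {X : Subgroup G} (𝒱 : Set (Subgroup G)) (hX : sSup 𝒱 = X) :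
    ∀ R : Subgroup G,
      (∀ W ∈ 𝒱, ∀ R' ≤ R, ElAct R' W → ¬ R' ≤ centralizer (W : Set G) →
        Nat.card R' ^ 3 * Nat.card ↥(W ⊓ centralizer (R' : Set G)) ^ 2 <
          Nat.card W ^ 2 * Nat.card ↥(R' ⊓ centralizer (W : Set G)) ^ 3) →
      ElAct R X → ¬ R ≤ centralizer (X : Set G) →
      Nat.card R ^ 3 * Nat.card ↥(X ⊓ centralizer (R : Set G)) ^ 2 <
        Nat.card X ^ 2 * Nat.card ↥(R ⊓ centralizer (X : Set G)) ^ 3 := by
  intro R
  induction R using WellFoundedLT.induction with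
  | ind R ih =>
    intro h hel hne
    obtain ⟨W, hW, hWR⟩ : ∃ W ∈ 𝒱, ¬ R ≤ centralizer (W : Set G) := by
      by_contra hcon
      push Not at hcon
      refine hne ?_
      rw [Subgroup.le_centralizer_iff, ← hX]
      exact sSup_le fun W hW => Subgroup.le_centralizer_iff.1 (hcon W hW)
    have hWX : W ≤ X := hX ▸ le_sSup hW
    set R' := R ⊓ centralizer (W : Set G) with hR'
    have hlt : R' < R := lt_of_le_of_ne inf_le_left fun e => hWR (inf_eq_left.1 e)
    have hY := h W hW R le_rfl (hel.anti hWX) hWR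
    have hC : R' ⊓ centralizer (X : Set G) = R ⊓ centralizer (X : Set G) := by
      rw [hR', inf_assoc, inf_eq_right.2 (centralizer_le hWX)]
    have hrec : Nat.card R' ^ 3 * Nat.card ↥(X ⊓ centralizer (R' : Set G)) ^ 2 ≤
        Nat.card X ^ 2 * Nat.card ↥(R ⊓ centralizer (X : Set G)) ^ 3 := by
      by_cases hc : R' ≤ centralizer (X : Set G)
      · rw [← hC, inf_eq_left.2 hc, mul_comm]
        exact Nat.mul_le_mul_right _ (Nat.pow_le_pow_left (card_le_of_le inf_le_left) _)
      · rw [← hC]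
        exact (ih R' hlt (fun W hW R'' hR'' => h W hW R'' (hR''.trans hlt.le)) (hel.mono hlt.le) hc).le
    have hWc : W ≤ X ⊓ centralizer (R' : Set G) :=
      le_inf hWX (Subgroup.le_centralizer_iff.1 inf_le_right)
    have hXc : X ⊓ centralizer (R : Set G) ≤ X ⊓ centralizer (R' : Set G) :=
      inf_le_inf_left _ (centralizer_le hlt.le)
    have hcard := card_mul_le hWc hXc
    rw [← inf_assoc, inf_eq_left.2 hWX] at hcard
    have hpos : 0 < Nat.card W ^ 2 := pow_pos Nat.card_pos _
    refine Nat.lt_of_mul_lt_mul_right (a := Nat.card W ^ 2) ?_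
    calc Nat.card R ^ 3 * Nat.card ↥(X ⊓ centralizer (R : Set G)) ^ 2 * Nat.card W ^ 2
        = Nat.card R ^ 3 * (Nat.card W * Nat.card ↥(X ⊓ centralizer (R : Set G))) ^ 2 := by ring
      _ ≤ Nat.card R ^ 3 * (Nat.card ↥(X ⊓ centralizer (R' : Set G)) *
            Nat.card ↥(W ⊓ centralizer (R : Set G))) ^ 2 :=
          Nat.mul_le_mul_left _ (Nat.pow_le_pow_left hcard _)
      _ = Nat.card R ^ 3 * Nat.card ↥(W ⊓ centralizer (R : Set G)) ^ 2 *
            Nat.card ↥(X ⊓ centralizer (R' : Set G)) ^ 2 := by ring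
      _ < Nat.card W ^ 2 * Nat.card R' ^ 3 * Nat.card ↥(X ⊓ centralizer (R' : Set G)) ^ 2 :=
          Nat.mul_lt_mul_of_lt_of_le hY le_rfl (pow_pos Nat.card_pos _)
      _ ≤ _ := by
          rw [mul_assoc, mul_comm _ (Nat.card W ^ 2)]
          exact Nat.mul_le_mul_left _ hrec

/-- An elementary abelian subgroup of largest order is an offender on every normalized one. -/
theorem offender {T X A : Subgroup G} (hX : Cfsg.IsElementaryAbelian 2 X) (hXT : X ≤ T) (hAT : A ≤ T)
    (hA : Cfsg.IsElementaryAbelian 2 A)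
    (hmax : ∀ B ≤ T, Cfsg.IsElementaryAbelian 2 B → Nat.card B ≤ Nat.card A) :
    Nat.card ↥(A ⊓ centralizer (X : Set G)) * Nat.card X ≤
      Nat.card A * Nat.card ↥(X ⊓ centralizer (A : Set G)) := by
  set C := A ⊓ centralizer (X : Set G) with hC
  have hB : Cfsg.IsElementaryAbelian 2 (closure ((C : Set G) ∪ X)) := by
    apply Cfsg.Lib.Thompson.isEA_closure
    · rintro a (ha | ha) b (hb | hb)
      · exact Cfsg.Lib.Thompson.isEA_commute hA ha.1 hb.1
      · exact (mem_centralizer_iff.1 ha.2 b hb).symm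
      · exact mem_centralizer_iff.1 hb.2 a ha
      · exact Cfsg.Lib.Thompson.isEA_commute hX ha hb
    · rintro a (ha | ha)
      · exact hA.2 a ha.1
      · exact hX.2 a ha
  rw [← sup_eq_closure] at hB
  have h1 := hmax _ (sup_le (inf_le_left.trans hAT) hXT) hB
  have h2 := card_mul_le (le_sup_left : C ≤ C ⊔ X) (le_sup_right : X ≤ C ⊔ X)
  refine h2.trans (Nat.mul_le_mul h1 (card_le_of_le (le_inf inf_le_right ?_)))
  intro z hz
  refine mem_centralizer_iff.2 fun a ha => ?_
  exact (Cfsg.Lib.Thompson.isEA_commute hA ha hz.1.1).eq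

theorem FS.centralizes_max {T X A : Subgroup G} (h : FS T X) (hAT : A ≤ T)
    (hA : Cfsg.IsElementaryAbelian 2 A)
    (hmax : ∀ B ≤ T, Cfsg.IsElementaryAbelian 2 B → Nat.card B ≤ Nat.card A) :
    A ≤ centralizer (X : Set G) := by
  by_contra hne
  have h1 := h.strict A hAT (ElAct.of_elementary hA) hne
  have h2 := offender h.elem h.le hAT hA hmax
  have hk : Nat.card ↥(A ⊓ centralizer (X : Set G)) ≤ Nat.card A := card_le_of_le inf_le_left
  set a := Nat.card A
  set k := Nat.card ↥(A ⊓ centralizer (X : Set G))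
  set c := Nat.card ↥(X ⊓ centralizer (A : Set G))
  set x := Nat.card X
  have h3 : a ^ 3 * c ^ 2 < a ^ 3 * c ^ 2 := by
    calc a ^ 3 * c ^ 2 < x ^ 2 * k ^ 3 := h1
      _ = k * (k * x) ^ 2 := by ring
      _ ≤ a * (a * c) ^ 2 := Nat.mul_le_mul hk (Nat.pow_le_pow_left h2 _)
      _ = _ := by ring
  exact lt_irrefl _ h3

end Finite

end Cfsg.Lib.Local.Triple
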