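import Cfsg.Agent.Lib.Local.Triple.Hyp
import Cfsg.Agent.Lib.Coprime.Action
import Cfsg.Agent.Lib.PGroup.Basic

/-!
A strict subgroup of a Sylow `2`-subgroup lies in `O₂`.
-/

set_option autoImplicit false

universe u

open scoped commutatorElement

namespace Cfsg.Lib.Local.Triple

open Subgroup Cfsg.Lib.Core

section Elementary

variable {L : Type u} [Group L] [Finite L]

/-- In an elementary abelian group, an element fixed by `a` modulo the fixed points of `x` is a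
commutator with `a` times a fixed point of `x`. -/
theorem exists_fixed_mul {U : Subgroup L} (hU : Cfsg.IsElementaryAbelian 2 U) {x a : L}
    (hxU : x ∈ normalizer (U : Set L)) (haU : a ∈ normalizer (U : Set L)) (hx : Odd (orderOf x))
    (hinv : a * x * a⁻¹ = x⁻¹) {q : L} (hq : q ∈ U)
    (hd : x * (q⁻¹ * (a * q * a⁻¹)) = q⁻¹ * (a * q * a⁻¹) * x) :
    ∃ p ∈ U, ∃ c ∈ U, x * c = c * x ∧ q = p⁻¹ * (a * p * a⁻¹) * c := by
  letI : CommGroup ↥U := { (inferInstance : Group ↥U) with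
    mul_comm := fun u v => Subtype.ext (Cfsg.Lib.Thompson.isEA_commute hU u.2 v.2).eq }
  set σ : MulAut ↥U := U.normalizerMonoidHom ⟨x, hxU⟩ with hσ
  set α : MulAut ↥U := U.normalizerMonoidHom ⟨a, haU⟩ with hα
  have hσv : ∀ v : ↥U, ((σ v : ↥U) : L) = x * v * x⁻¹ := fun _ => rfl
  have hαv : ∀ v : ↥U, ((α v : ↥U) : L) = a * v * a⁻¹ := fun _ => rfl
  have hsq : ∀ v : ↥U, v * v = 1 := fun v => Subtype.ext (by
    rw [Subgroup.coe_mul, ← pow_two, hU.2 v v.2]; rfl)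
  have hinv' : ∀ v : ↥U, v⁻¹ = v := fun v => inv_eq_of_mul_eq_one_right (hsq v)
  have hασ : α * σ * α⁻¹ = σ⁻¹ := by
    rw [hσ, hα, ← map_inv, ← map_mul, ← map_mul, ← map_inv]
    exact congrArg _ (Subtype.ext hinv)
  have hασk : ∀ (k : ℕ) (v : ↥U), α ((σ ^ k) v) = ((σ⁻¹) ^ k) (α v) := fun k v => by
    have h1 : α * σ ^ k = (σ⁻¹) ^ k * α := by
      rw [← hασ, conj_pow, inv_mul_cancel_right]
    exact DFunLike.congr_fun h1 v
  obtain ⟨h, hh⟩ := hx
  have hσm : σ ^ (2 * h + 1) = 1 := by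
    rw [← hh, hσ, ← map_pow,
      show (⟨x, hxU⟩ : ↥(normalizer (U : Set L))) ^ orderOf x = 1 from Subtype.ext (pow_orderOf_eq_one x),
      map_one]
  set Q : ↥U := ⟨q, hq⟩
  set d : ↥U := Q * α Q with hdd
  have hdσ : σ d = d := by
    refine Subtype.ext ?_
    have h1 : (d : L) = q⁻¹ * (a * q * a⁻¹) := by
      rw [hdd, Subgroup.coe_mul, hαv]
      congr 1
      exact (congrArg Subtype.val (hinv' Q)).symm
    rw [hσv, h1, hd, mul_inv_cancel_right]
  obtain ⟨f, hf0⟩ : ∃ f : ℕ → ↥U,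
      f = fun k => Q * ∏ i ∈ Finset.range k, ((σ ^ (i + 1)) Q * (σ⁻¹ ^ (i + 1)) Q) := ⟨_, rfl⟩
  have hstep : ∀ k, σ (f k) * f k = (σ ^ (k + 1)) Q * (σ⁻¹ ^ k) Q := by
    intro k
    induction k with
    | zero => simp [hf0]
    | succ k ih =>
      have hf : f (k + 1) = f k * ((σ ^ (k + 1)) Q * (σ⁻¹ ^ (k + 1)) Q) := by
        simp only [hf0, Finset.prod_range_succ, mul_assoc]
      have e1 : σ ((σ ^ (k + 1)) Q) = (σ ^ (k + 1 + 1)) Q := by
        rw [← MulAut.mul_apply, ← pow_succ']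
      have e2 : σ ((σ⁻¹ ^ (k + 1)) Q) = (σ⁻¹ ^ k) Q := by
        rw [← MulAut.mul_apply, pow_succ' σ⁻¹, ← mul_assoc, mul_inv_cancel, one_mul]
      calc σ (f (k + 1)) * f (k + 1)
          = (σ (f k) * f k) * (σ ((σ ^ (k + 1)) Q) * σ ((σ⁻¹ ^ (k + 1)) Q) *
              ((σ ^ (k + 1)) Q * (σ⁻¹ ^ (k + 1)) Q)) := by
            rw [hf, map_mul, map_mul]
            ac_rfl
        _ = ((σ ^ (k + 1)) Q * (σ ^ (k + 1)) Q) * ((σ⁻¹ ^ k) Q * (σ⁻¹ ^ k) Q) *
              ((σ ^ (k + 1 + 1)) Q * (σ⁻¹ ^ (k + 1)) Q) := by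
            rw [ih, e1, e2]
            ac_rfl
        _ = _ := by rw [hsq, hsq, one_mul, one_mul]
  have hfix : σ (f h) = f h := by
    have h1 := hstep h
    have h2 : σ ^ (h + 1) = σ⁻¹ ^ h := by
      rw [inv_pow, eq_inv_iff_mul_eq_one, ← pow_add, show h + 1 + h = 2 * h + 1 by ring, hσm]
    rw [h2, hsq, mul_eq_one_iff_eq_inv, hinv'] at h1
    exact h1
  set p : ↥U := ∏ i ∈ Finset.range h, (σ ^ (i + 1)) Q with hp
  have hdk : ∀ k : ℕ, (σ⁻¹ ^ k) d = d := by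
    intro k
    induction k with
    | zero => rfl
    | succ k ih =>
      rw [pow_succ, MulAut.mul_apply, show σ⁻¹ d = d from (MulEquiv.symm_apply_eq σ).2 hdσ.symm, ih]
  have hpd : p * α p = (∏ i ∈ Finset.range h, ((σ ^ (i + 1)) Q * (σ⁻¹ ^ (i + 1)) Q)) * d ^ h := by
    rw [hp, map_prod, ← Finset.prod_mul_distrib,
      show d ^ h = ∏ _i ∈ Finset.range h, d by simp, ← Finset.prod_mul_distrib]
    refine Finset.prod_congr rfl fun i _ => ?_
    rw [hασk, mul_assoc]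
    congr 1
    rw [show α Q = Q * d by rw [hdd, ← mul_assoc, hsq, one_mul], map_mul, hdk]
  refine ⟨(p : L), p.2, ((f h * d ^ h : ↥U) : L), (f h * d ^ h : ↥U).2, ?_, ?_⟩
  · have hc : σ (f h * d ^ h) = f h * d ^ h := by rw [map_mul, map_pow, hfix, hdσ]
    have := congrArg Subtype.val hc
    rw [hσv, mul_inv_eq_iff_eq_mul] at this
    exact this
  · have e : Q = p⁻¹ * α p * (f h * d ^ h) := by
      rw [hinv' p, hpd]
      set P := ∏ i ∈ Finset.range h, ((σ ^ (i + 1)) Q * (σ⁻¹ ^ (i + 1)) Q) with hP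
      rw [show f h = Q * P by rw [hf0]]
      show Q = P * d ^ h * (Q * P * d ^ h)
      calc Q = (P * P) * (d ^ h * d ^ h) * Q := by rw [hsq, hsq, one_mul, one_mul]
        _ = P * d ^ h * (Q * P * d ^ h) := by ac_rfl
    simpa [hαv] using congrArg Subtype.val e

end Elementary

variable {G : Type u} [Group G] [Finite G]

theorem frattini_map_normal (U : Subgroup G) [U.Normal] : ((frattini ↥U).map U.subtype).Normal :=
  Cfsg.Lib.Core.normal_map_char_of_normal _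

theorem frattini_map_lt {U : Subgroup G} (hU : U ≠ ⊥) : (frattini ↥U).map U.subtype < U := by
  haveI : Nontrivial ↥U := (nontrivial_iff_ne_bot U).2 hU
  refine lt_of_le_of_ne (map_subtype_le _) fun h => Cfsg.Lib.PGroup.frattini_ne_top (G := ↥U) ?_
  refine map_injective U.subtype_injective (h.trans ?_)
  rw [← MonoidHom.range_eq_map, range_subtype]

theorem isEA_map_frattini {U : Subgroup G} (hU : IsPGroup 2 ↥U) {N : Subgroup G} [N.Normal]
    (hN : (frattini ↥U).map U.subtype ≤ N) :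
    Cfsg.IsElementaryAbelian 2 (U.map (QuotientGroup.mk' N)) := by
  haveI : Fact (Nat.Prime 2) := ⟨Nat.prime_two⟩
  refine ⟨⟨⟨?_⟩⟩, ?_⟩
  · rintro ⟨_, a, ha, rfl⟩ ⟨_, b, hb, rfl⟩
    refine Subtype.ext (commutatorElement_eq_one_iff_mul_comm.1 ?_)
    rw [← map_commutatorElement]
    refine (QuotientGroup.eq_one_iff _).2 (hN ⟨⁅(⟨a, ha⟩ : ↥U), ⟨b, hb⟩⁆,
      Cfsg.Lib.PGroup.commutator_le_frattini hU ?_, rfl⟩)
    exact commutator_mem_commutator (mem_top _) (mem_top _)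
  · rintro _ ⟨a, ha, rfl⟩
    rw [← map_pow]
    exact (QuotientGroup.eq_one_iff _).2 (hN ⟨(⟨a, ha⟩ : ↥U) ^ 2, Cfsg.Lib.PGroup.pow_mem_frattini hU _, rfl⟩)

/-- An element of odd order acting trivially on the Frattini quotient of a `2`-group. -/
theorem centralizes_of_frattini {U : Subgroup G} [U.Normal] (hU : IsPGroup 2 ↥U) {x : G}
    (hx : Odd (orderOf x)) (h : ∀ q ∈ U, ⁅q, x⁆ ∈ (frattini ↥U).map U.subtype) :
    x ∈ centralizer (U : Set G) := by
  haveI : Fact (Nat.Prime 2) := ⟨Nat.prime_two⟩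
  haveI := frattini_map_normal U
  obtain ⟨k, hk⟩ := hU.exists_card_eq
  have hcop : (Nat.card (zpowers x)).Coprime (Nat.card U) := by
    rw [Nat.card_zpowers, hk]
    exact (Nat.coprime_two_right.2 hx).pow_right k
  have hsol : Group.IsSolvable ↥(zpowers x) ∨ Group.IsSolvable ↥U :=
    Or.inl (Group.isSolvable_of_comm fun a b => mul_comm' a b)
  refine Cfsg.Lib.Coprime.le_centralizer_of_commutator_le_frattini
    (le_normalizer_of_normal) hcop hsol ?_ (mem_zpowers x)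
  rw [commutator_le]
  intro q hq z hz
  set Φ := (frattini ↥U).map U.subtype
  rw [← QuotientGroup.eq_one_iff (N := Φ), ← QuotientGroup.mk'_apply, map_commutatorElement,
    commutatorElement_eq_one_iff_mul_comm]
  obtain ⟨n, rfl⟩ := mem_zpowers_iff.1 hz
  rw [map_zpow]
  refine Commute.zpow_right ?_ n
  rw [commute_iff_eq, ← commutatorElement_eq_one_iff_mul_comm, ← map_commutatorElement]
  exact (QuotientGroup.eq_one_iff _).2 (h q hq)

theorem three_quotient_pCore (hyp : Hyp G) :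
    ∀ x a : G ⧸ Cfsg.pCore 2 G, x ^ 3 = 1 → a * a = 1 → a * x * a⁻¹ = x⁻¹ → x = 1 := by
  haveI : Fact (Nat.Prime 2) := ⟨Nat.prime_two⟩
  set Q := Cfsg.pCore 2 G with hQ
  have hQp : IsPGroup 2 ↥Q := pCore_isPGroup 2 G
  set Φ := (frattini ↥Q).map Q.subtype with hΦ
  haveI : Φ.Normal := frattini_map_normal Q
  set V := Q.map (QuotientGroup.mk' Φ) with hV
  haveI : V.Normal := (inferInstance : Q.Normal).map _ (QuotientGroup.mk'_surjective Φ)
  have hfree : ¬ Cfsg.Involves (Equiv.Perm (Fin 4)) (G ⧸ Φ) := fun h =>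
    hyp.free (Cfsg.Lib.FusionSys.involves_of_surjective (QuotientGroup.mk'_surjective Φ) h)
  have hVe := isEA_map_frattini hQp (N := Φ) le_rfl
  set C := (centralizer (V : Set (G ⧸ Φ))).comap (QuotientGroup.mk' Φ) with hC
  have hCQ : C ≤ Q := by
    refine le_pCore' inferInstance (Cfsg.Lib.Local.isPGroup_of_forall_coprime fun x hx hcop => ?_)
    have hodd := Nat.coprime_two_right.1 hcop
    have h1 : x ∈ Q := hyp.cons (centralizes_of_frattini hQp hodd fun q hq => by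
      rw [← hΦ, ← QuotientGroup.eq_one_iff (N := Φ), ← QuotientGroup.mk'_apply, map_commutatorElement,
        commutatorElement_eq_one_iff_mul_comm]
      exact mem_centralizer_iff.1 hx _ ⟨q, hq, rfl⟩)
    obtain ⟨k, hk⟩ := hQp ⟨x, h1⟩
    exact orderOf_eq_one_iff.1 (Nat.eq_one_of_dvd_coprimes (hcop.symm.pow_left k)
      (orderOf_dvd_of_pow_eq_one (congrArg Subtype.val hk :)) dvd_rfl)
  let f : G ⧸ Φ →* G ⧸ Q :=
    QuotientGroup.map Φ Q (MonoidHom.id G) (by rw [Subgroup.comap_id]; exact map_subtype_le _)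
  have hf : Function.Surjective f := fun y => by
    obtain ⟨g, rfl⟩ := QuotientGroup.mk'_surjective Q y
    exact ⟨(g : G ⧸ Φ), rfl⟩
  refine three_of_four hfree f hf V (hQp.map _) ?_
  ext y
  obtain ⟨g, rfl⟩ := QuotientGroup.mk'_surjective Φ y
  rw [MonoidHom.mem_ker]
  show (g : G ⧸ Q) = 1 ↔ _
  rw [QuotientGroup.eq_one_iff]
  refine ⟨fun hg => mem_centralizer_iff.2 fun v hv => ?_, fun hg => hCQ hg⟩
  exact (Cfsg.Lib.Thompson.isEA_commute hVe hv ⟨g, hg, rfl⟩).eq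

/-- A fixed coset of `C(x)` meets `V ∩ Q`. -/
theorem descend {V : Subgroup G} {x a : G} (hx : Odd (orderOf x)) (haV : a ∈ V)
    (hV : Cfsg.IsElementaryAbelian 2 V) (hinv : a * x * a⁻¹ = x⁻¹)
    (hQV : Cfsg.pCore 2 G ≤ normalizer (V : Set G)) :
    ∀ U : Subgroup G, U.Normal → U ≤ Cfsg.pCore 2 G → ∀ q ∈ U,
      x * (q⁻¹ * (a * q * a⁻¹)) = q⁻¹ * (a * q * a⁻¹) * x →
      ∃ v ∈ V ⊓ Cfsg.pCore 2 G, ∃ c ∈ U, x * c = c * x ∧ q = v * c := by
  haveI : Fact (Nat.Prime 2) := ⟨Nat.prime_two⟩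
  intro U
  induction U using WellFoundedLT.induction with
  | ind U ih =>
    intro hUn hUQ q hq hd
    haveI := hUn
    by_cases hb : U = ⊥
    · subst hb
      rw [mem_bot] at hq
      subst hq
      exact ⟨1, one_mem _, 1, one_mem _, by simp, by simp⟩
    have hUp : IsPGroup 2 ↥U := (pCore_isPGroup 2 G).to_le hUQ
    set Φ := (frattini ↥U).map U.subtype with hΦ
    haveI hΦn : Φ.Normal := frattini_map_normal U
    set π := QuotientGroup.mk' Φ with hπ
    have hUe := isEA_map_frattini hUp (N := Φ) le_rfl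
    have hUn' : (U.map π).Normal := hUn.map π (QuotientGroup.mk'_surjective Φ)
    have hodd : Odd (orderOf (π x)) := hx.of_dvd_nat (orderOf_map_dvd π x)
    obtain ⟨p, ⟨p0, hp0, rfl⟩, c, hcU, hcx, he⟩ := exists_fixed_mul hUe
      (x := π x) (a := π a) (le_normalizer_of_normal (mem_top _)) (le_normalizer_of_normal (mem_top _))
      hodd (by rw [← map_inv, ← map_mul, ← map_mul, hinv, map_inv]) (q := π q) ⟨q, hq, rfl⟩
      (by simp only [← map_inv, ← map_mul]; exact congrArg π hd)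
    obtain ⟨k, hk⟩ := hUp.exists_card_eq
    have hcop : (Nat.card (zpowers x)).Coprime (Nat.card U) := by
      rw [Nat.card_zpowers, hk]
      exact (Nat.coprime_two_right.2 hx).pow_right k
    have hlift := Cfsg.Lib.Coprime.map_inf_centralizer_eq (A := zpowers x) (G := U) π
      le_normalizer_of_normal hcop (Or.inl (Group.isSolvable_of_comm fun a b => mul_comm' a b))
    obtain ⟨c0, hc0, rfl⟩ : c ∈ (U ⊓ centralizer (zpowers x : Set G)).map π := by
      rw [hlift]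
      refine mem_inf.2 ⟨hcU, ?_⟩
      rw [MonoidHom.map_zpowers, mem_centralizer_iff]
      intro z hz
      obtain ⟨n, rfl⟩ := mem_zpowers_iff.1 hz
      exact ((show Commute (π x) c from hcx).zpow_left n).eq
    obtain ⟨hc0U, hc0x⟩ := mem_inf.1 hc0
    have hc0x' : x * c0 = c0 * x := mem_centralizer_iff.1 hc0x x (mem_zpowers x)
    obtain ⟨v, hv⟩ : ∃ v, v = p0⁻¹ * (a * p0 * a⁻¹) := ⟨_, rfl⟩
    have hp0Q := hUQ hp0
    have hvV : v ∈ V := by
      rw [hv, show p0⁻¹ * (a * p0 * a⁻¹) = p0⁻¹ * a * p0⁻¹⁻¹ * a⁻¹ by group]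
      exact mul_mem ((mem_normalizer_iff.1 (hQV (inv_mem hp0Q)) a).1 haV) (inv_mem haV)
    have hvU : v ∈ U := by rw [hv]; exact mul_mem (inv_mem hp0) (hUn.conj_mem p0 hp0 a)
    obtain ⟨q', hq'⟩ : ∃ q', q' = v⁻¹ * q * c0⁻¹ := ⟨_, rfl⟩
    have hq'Φ : q' ∈ Φ := by
      rw [← QuotientGroup.eq_one_iff (N := Φ), ← QuotientGroup.mk'_apply, ← hπ, hq', map_mul, map_mul,
        map_inv, map_inv, he, hv, map_mul, map_mul, map_mul, map_inv, map_inv]
      simp only [hπ]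
      group
    have hqe : q = v * q' * c0 := by rw [hq']; group
    have hav : a * v = v * a := (Cfsg.Lib.Thompson.isEA_commute hV haV hvV).eq
    have hd' : x * (q'⁻¹ * (a * q' * a⁻¹)) = q'⁻¹ * (a * q' * a⁻¹) * x := by
      have h1 : q'⁻¹ * (a * q' * a⁻¹) = c0 * (q⁻¹ * (a * q * a⁻¹)) * (a * c0 * a⁻¹)⁻¹ := by
        rw [hqe]
        calc q'⁻¹ * (a * q' * a⁻¹) = q'⁻¹ * (v⁻¹ * (a * v * a⁻¹)) * (a * q' * a⁻¹) := by
              rw [hav]; group
          _ = _ := by group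
      have hxc : Commute x (a * c0 * a⁻¹) := by
        have hxi : x = a * x⁻¹ * a⁻¹ := by rw [show a * x⁻¹ * a⁻¹ = (a * x * a⁻¹)⁻¹ by group, hinv, inv_inv]
        have h2 : Commute (a * x⁻¹ * a⁻¹) (a * c0 * a⁻¹) :=
          ((show Commute x c0 from hc0x').inv_left).map (MulAut.conj a).toMonoidHom
        rwa [← hxi] at h2
      rw [h1]
      exact (((show Commute x c0 from hc0x').mul_right (show Commute x _ from hd)).mul_right hxc.inv_right).eq
    obtain ⟨v', hv', c', hc', hc'x, rfl⟩ := ih Φ (frattini_map_lt hb) hΦn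
      ((map_subtype_le _).trans hUQ) q' hq'Φ hd'
    refine ⟨v * v', mem_inf.2 ⟨mul_mem hvV hv'.1, mul_mem (hUQ hvU) hv'.2⟩, c' * c0,
      mul_mem (map_subtype_le _ hc') hc0U, ?_, by rw [hqe]; group⟩
    exact ((show Commute x c' from hc'x).mul_right hc0x').eq

theorem le_pCore_of_fs (hyp : Hyp G) (S : Sylow 2 G) {V : Subgroup G} (h : FS (S : Subgroup G) V) :
    V ≤ Cfsg.pCore 2 G := by
  classical
  haveI : Fact (Nat.Prime 2) := ⟨Nat.prime_two⟩
  set Q := Cfsg.pCore 2 G with hQ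
  have hQp : IsPGroup 2 ↥Q := pCore_isPGroup 2 G
  have hQS : Q ≤ (S : Subgroup G) := pCore_le_sylow S
  set π := QuotientGroup.mk' Q with hπ
  by_contra hne
  set Ā := V.map π with hA
  have hAe : Cfsg.IsElementaryAbelian 2 Ā := Cfsg.Lib.Thompson.isEA_map _ h.elem
  have hA1 : Ā ≠ ⊥ := fun e => hne (by
    rw [hA, Subgroup.map_eq_bot_iff, hπ, QuotientGroup.ker_mk'] at e; exact e)
  have hO : Cfsg.pCore 2 (G ⧸ Q) = ⊥ := pCore_quotient_pCore_eq_bot
  obtain ⟨B, x, a, p, D, s, hB, ha, hp, hp2, hD, hs, hcard, hox, hinv, hxB⟩ :=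
    Cfsg.Lib.Local.TriBound.exists_stage hO (three_quotient_pCore hyp)
      (good_of_fac hO (hyp.fac.of_surjective π (QuotientGroup.mk'_surjective Q))) Ā hAe hA1
  obtain ⟨a0, ha0, rfl⟩ := ha
  obtain ⟨x0, rfl⟩ := QuotientGroup.mk'_surjective Q x
  have haa : a0 * a0 = 1 := by rw [← pow_two]; exact h.elem.2 a0 ha0
  have hai : a0⁻¹ = a0 := inv_eq_of_mul_eq_one_right haa
  obtain ⟨w, hw⟩ : ∃ w, w = a0 * (x0 * a0 * x0⁻¹) := ⟨_, rfl⟩
  have hwinv : a0 * w * a0⁻¹ = w⁻¹ := by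
    rw [hw, mul_inv_rev, mul_inv_rev, mul_inv_rev, inv_inv, hai, ← mul_assoc a0 a0, haa, one_mul]
    group
  have hπw : π w = (π x0)⁻¹ ^ 2 := by
    calc π w = (π a0 * π x0 * (π a0)⁻¹) * (π a0 * π a0) * (π x0)⁻¹ := by
          rw [hw, map_mul, map_mul, map_mul, map_inv]; group
      _ = (π x0)⁻¹ ^ 2 := by rw [← map_mul π a0 a0, haa, map_one, mul_one, hinv, pow_two]
  haveI := Fact.mk hp
  have hpw : orderOf (π w) = p := by
    rw [hπw, orderOf_pow' _ two_ne_zero, orderOf_inv, hox,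
      ((Nat.coprime_primes hp Nat.prime_two).2 hp2).gcd_eq_one, Nat.div_one]
  obtain ⟨n, hn, hninv⟩ := Cfsg.Lib.Local.TriBound.exists_pow_prime hwinv
    (show p ∣ orderOf w from hpw ▸ orderOf_map_dvd π w)
  set y := w ^ n with hy
  have hyodd : Odd (orderOf y) := by rw [hn]; exact hp.odd_of_ne_two hp2
  have hy1 : y ≠ 1 := fun e => by rw [e, orderOf_one] at hn; exact hp.one_lt.ne hn
  have hyQ : y ∉ Q := fun hm => by
    obtain ⟨k, hk⟩ := hQp ⟨y, hm⟩
    exact hy1 (orderOf_eq_one_iff.1 (Nat.eq_one_of_dvd_coprimes ((Nat.coprime_two_left.2 hyodd).pow_left k)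
      (orderOf_dvd_of_pow_eq_one (congrArg Subtype.val hk :)) dvd_rfl))
  have hyB : ∀ b ∈ B, Commute (π y) b := fun b hb => by
    rw [hy, map_pow, hπw]
    exact (((show Commute (π x0) b from hxB b hb).inv_left).pow_left 2).pow_left n
  -- lifts of `B` centralizing `y`
  set V0 := V ⊓ Q with hV0
  set VB := V ⊓ B.comap π with hVB
  have hlift : ∀ b ∈ VB, ∃ v ∈ V0, y * (b * v) = (b * v) * y := by
    intro b hb
    obtain ⟨hbV, hbB⟩ := mem_inf.1 hb
    set W := Q ⊔ zpowers b with hW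
    have hWp : IsPGroup 2 ↥W := S.2.to_le (sup_le hQS ((zpowers_le).2 (h.le hbV)))
    have hQW : Q ≤ W := le_sup_left
    have hbW : b ∈ W := mem_sup_right (mem_zpowers b)
    have hcomm : ∀ z ∈ zpowers y, ⁅b, z⁆ ∈ Q := by
      intro z hz
      obtain ⟨m, rfl⟩ := mem_zpowers_iff.1 hz
      rw [← QuotientGroup.eq_one_iff (N := Q), ← QuotientGroup.mk'_apply, ← hπ, map_commutatorElement,
        commutatorElement_eq_one_iff_mul_comm, map_zpow]
      exact ((hyB _ hbB).symm.zpow_right m).eq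
    have hnW : zpowers y ≤ normalizer (W : Set G) := by
      rw [le_normalizer_iff_conj_mem]
      intro z hz v hv
      rw [hW, mem_sup_of_normal_left] at hv
      obtain ⟨q, hq, t, ht, rfl⟩ := hv
      obtain ⟨m, rfl⟩ := mem_zpowers_iff.1 ht
      have e : z * (q * b ^ m) * z⁻¹ = (z * q * z⁻¹) * (⁅b, z⁆⁻¹ * b) ^ m := by
        rw [show ⁅b, z⁆⁻¹ * b = z * b * z⁻¹ by rw [commutatorElement_def]; group, conj_zpow]
        group
      rw [e]
      exact mul_mem (hQW ((inferInstance : Q.Normal).conj_mem q hq z))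
        (zpow_mem (mul_mem (hQW (inv_mem (hcomm z hz))) hbW) m)
    obtain ⟨k, hk⟩ := hWp.exists_card_eq
    have hcop : (Nat.card (zpowers y)).Coprime (Nat.card W) := by
      rw [Nat.card_zpowers, hk]; exact (Nat.coprime_two_right.2 hyodd).pow_right k
    obtain ⟨n', hn', c, hc, hbc⟩ := Cfsg.Lib.Coprime.exists_mul_centralizer_of_commutator_mem
      hnW hcop (Or.inl (Group.isSolvable_of_comm fun a b => mul_comm' a b)) hQW le_normalizer_of_normal hbW hcomm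
    have hcy : Commute y c := mem_centralizer_iff.1 (mem_inf.1 hc).2 y (mem_zpowers y)
    obtain ⟨q, hq⟩ : ∃ q, q = b⁻¹ * c := ⟨_, rfl⟩
    have hqQ : q ∈ Q := by
      rw [hq, show b⁻¹ * c = b⁻¹ * n'⁻¹ * b⁻¹⁻¹ by rw [hbc]; group]
      exact (inferInstance : Q.Normal).conj_mem _ (inv_mem hn') _
    have hab : Commute a0 b := Cfsg.Lib.Thompson.isEA_commute h.elem ha0 hbV
    have hd : y * (q⁻¹ * (a0 * q * a0⁻¹)) = q⁻¹ * (a0 * q * a0⁻¹) * y := by
      have e : q⁻¹ * (a0 * q * a0⁻¹) = c⁻¹ * (a0 * c * a0⁻¹) := by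
        rw [hq]
        calc (b⁻¹ * c)⁻¹ * (a0 * (b⁻¹ * c) * a0⁻¹) = c⁻¹ * (b * a0 * b⁻¹) * (c * a0⁻¹) := by group
          _ = c⁻¹ * (a0 * b * b⁻¹) * (c * a0⁻¹) := by rw [← hab.eq]
          _ = _ := by group
      have hyi : y = a0 * y⁻¹ * a0⁻¹ := by rw [show a0 * y⁻¹ * a0⁻¹ = (a0 * y * a0⁻¹)⁻¹ by group, hninv, inv_inv]
      have h2 : Commute (a0 * y⁻¹ * a0⁻¹) (a0 * c * a0⁻¹) := hcy.inv_left.map (MulAut.conj a0).toMonoidHom
      rw [← hyi] at h2
      rw [e]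
      exact (hcy.inv_right.mul_right h2).eq
    obtain ⟨v, hv, c', hc', hc'y, hqe⟩ := descend hyodd ha0 h.elem hninv (hQS.trans h.norm) Q
      inferInstance le_rfl q hqQ hd
    refine ⟨v, hv, ?_⟩
    have e : b * v = c * c'⁻¹ := by
      calc b * v = b * (v * c') * c'⁻¹ := by group
        _ = c * c'⁻¹ := by rw [← hqe, hq]; group
    rw [e]
    exact (hcy.mul_right (show Commute y c' from hc'y).inv_right).eq
  -- the image on the Frattini quotient
  set Φ := (frattini ↥Q).map Q.subtype with hΦ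
  haveI : Φ.Normal := frattini_map_normal Q
  set ρ := QuotientGroup.mk' Φ with hρ
  set M := Q.map ρ with hM
  have hMe : Cfsg.IsElementaryAbelian 2 M := isEA_map_frattini hQp le_rfl
  haveI : M.Normal := (inferInstance : Q.Normal).map ρ (QuotientGroup.mk'_surjective Φ)
  set E := ⁅M, zpowers (ρ y)⁆ with hE
  have hEM : E ≤ M := commutator_le_left _ _
  have hEe : Cfsg.IsElementaryAbelian 2 E :=
    ⟨⟨⟨fun u v => Subtype.ext (Cfsg.Lib.Thompson.isEA_commute hMe (hEM u.2) (hEM v.2)).eq⟩⟩,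
      fun u hu => hMe.2 u (hEM hu)⟩
  have hρinv : ρ a0 * ρ y * (ρ a0)⁻¹ = (ρ y)⁻¹ := by rw [← map_inv, ← map_mul, ← map_mul, hninv, map_inv]
  have hρaa : ρ a0 * ρ a0 = 1 := by rw [← map_mul, haa, map_one]
  have hρy : orderOf (ρ y) = p := by
    refine (Nat.dvd_prime hp).1 (hn ▸ orderOf_map_dvd ρ y) |>.resolve_left fun e => hyQ ?_
    exact (map_subtype_le _) ((QuotientGroup.eq_one_iff y).1 (orderOf_eq_one_iff.1 e))
  haveI : IsMulCommutative M := hMe.1
  have hMcop : (Nat.card (zpowers (ρ y))).Coprime (Nat.card M) := by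
    obtain ⟨k, hk⟩ := (hQp.map ρ).exists_card_eq
    rw [Nat.card_zpowers, hρy, hk]
    exact ((Nat.coprime_primes hp Nat.prime_two).2 hp2).pow_right k
  have hdisj := Cfsg.Lib.Coprime.disjoint_commutator_centralizer (A := zpowers (ρ y)) (G := M)
    le_normalizer_of_normal hMcop
  have hEy : zpowers (ρ y) ≤ normalizer (E : Set (G ⧸ Φ)) := normalizer_commutator_ge_right _ _
  have hfix0 : ∀ e ∈ E, ρ y * e = e * ρ y → e = 1 := fun e he hc => by
    have : e ∈ centralizer (zpowers (ρ y) : Set (G ⧸ Φ)) := by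
      rw [mem_centralizer_iff]
      intro z hz
      obtain ⟨m, rfl⟩ := mem_zpowers_iff.1 hz
      exact ((show Commute (ρ y) e from hc).zpow_left m).eq
    exact Subgroup.disjoint_def.1 hdisj he this
  have hneE : ¬ ∀ e ∈ E, ρ y * e = e * ρ y := by
    intro hall
    refine hyQ (hyp.cons (centralizes_of_frattini hQp hyodd fun q hq => ?_))
    rw [← hΦ, ← QuotientGroup.eq_one_iff (N := Φ), ← QuotientGroup.mk'_apply, ← hρ, map_commutatorElement]
    have hm : ⁅ρ q, ρ y⁆ ∈ E := commutator_mem_commutator ⟨q, hq, rfl⟩ (mem_zpowers _)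
    exact hfix0 _ hm (hall _ hm)
  have haE : ρ a0 ∈ normalizer (E : Set (G ⧸ Φ)) := by
    refine mem_normalizer_iff_map_conj.2 ?_
    rw [hE, map_commutator, map_conj_eq_of_mem_normalizer (le_normalizer_of_normal (mem_top _)),
      MonoidHom.map_zpowers]
    show ⁅M, zpowers (ρ a0 * ρ y * (ρ a0)⁻¹)⁆ = _
    rw [hρinv, zpowers_inv]
  have hidx := Cfsg.Lib.Local.TriBound.index_sq hEe hp hp2 hD hρy hρinv hρaa (hEy (mem_zpowers _)) haE hneE
  obtain ⟨i, hi⟩ : ∃ i, (E ⊓ centralizer ({ρ a0} : Set (G ⧸ Φ))).relIndex E = 2 ^ i := by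
    obtain ⟨j, hj⟩ := (show IsPGroup 2 ↥E from fun v => ⟨1, Subtype.ext (by simpa using hEe.2 v.1 v.2)⟩).exists_card_eq
    obtain ⟨i, -, hi⟩ := (Nat.dvd_prime_pow Nat.prime_two).1
      (hj ▸ relIndex_dvd_card (E ⊓ centralizer ({ρ a0} : Set (G ⧸ Φ))) E)
    exact ⟨i, hi⟩
  rw [hi] at hidx
  have hs2 := hs i hidx
  have hi0 : i ≠ 0 := by
    rintro rfl
    rw [pow_zero, relIndex_eq_one] at hi
    refine hneE fun e he => ?_
    have hae : ∀ z ∈ E, ρ a0 * z * (ρ a0)⁻¹ = z := fun z hz => by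
      rw [← mem_centralizer_singleton_iff.1 (mem_inf.1 (hi hz)).2, mul_inv_cancel_right]
    have hye : ρ y * e * (ρ y)⁻¹ ∈ E := (mem_normalizer_iff.1 (hEy (mem_zpowers _)) e).1 he
    have h2 : (ρ y)⁻¹ * e * (ρ y) = ρ y * e * (ρ y)⁻¹ := by
      conv_rhs => rw [← hae _ hye]
      conv_lhs => rw [← hae _ he]
      rw [show ρ a0 * (ρ y * e * (ρ y)⁻¹) * (ρ a0)⁻¹ = (ρ a0 * ρ y * (ρ a0)⁻¹) * (ρ a0 * e * (ρ a0)⁻¹) *
        (ρ a0 * ρ y * (ρ a0)⁻¹)⁻¹ by group, hρinv, inv_inv]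
    have h3 : Commute (ρ y ^ 2) e := by
      rw [commute_iff_eq, pow_two]
      calc ρ y * ρ y * e = ρ y * (ρ y * e * (ρ y)⁻¹) * ρ y := by group
        _ = ρ y * ((ρ y)⁻¹ * e * ρ y) * ρ y := by rw [h2]
        _ = e * (ρ y * ρ y) := by group
    obtain ⟨m, hm⟩ := hρy.symm ▸ hp.odd_of_ne_two hp2
    have h4 : (ρ y ^ 2) ^ (m + 1) = ρ y := by
      rw [← pow_mul, show 2 * (m + 1) = 2 * m + 1 + 1 by ring, pow_succ, ← hm,
        pow_orderOf_eq_one, one_mul]
    exact h4 ▸ (h3.pow_left (m + 1)).eq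
  -- each conjugate of `V ∩ Q` has a large image
  have main : ∀ z : G, orderOf (ρ z) = p → ρ a0 * ρ z * (ρ a0)⁻¹ = (ρ z)⁻¹ → zpowers (ρ z) = zpowers (ρ y) →
      (∀ b ∈ VB, ∃ v ∈ V0, z * (b * v) = (b * v) * z) →
      Nat.card V0 * Nat.card ↥(V0.map (MulAut.conj z⁻¹).toMonoidHom ⊓ centralizer (V : Set G)) ^ 2 <
          s ^ 2 * Nat.card ↥(V0.map (MulAut.conj z).toMonoidHom ⊓ centralizer (V : Set G)) ^ 3 ∧
        Nat.card ↥(V0.map (MulAut.conj z).toMonoidHom ⊓ centralizer (V : Set G)) * 2 ^ i ≤ Nat.card V0 := by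
    intro z hoz hzinv hzy hzl
    set R := V0.map (MulAut.conj z).toMonoidHom with hR
    have hRn : Nat.card R = Nat.card V0 := card_map_of_injective (MulAut.conj z).injective
    have hRQ : R ≤ Q := by
      rintro _ ⟨v, hv, rfl⟩
      exact (inferInstance : Q.Normal).conj_mem v hv.2 z
    -- the hom to the Frattini quotient
    set E1 := E ⊓ centralizer ({ρ a0} : Set (G ⧸ Φ))
    have hMcomm : ∀ u ∈ M, ∀ v ∈ M, u * v = v * u := fun u hu v hv =>
      (Cfsg.Lib.Thompson.isEA_commute hMe hu hv).eq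
    have hMc : ∀ u ∈ M, ρ a0 * u * (ρ a0)⁻¹ ∈ M := fun u hu => (inferInstance : M.Normal).conj_mem u hu _
    let g : ↥R →* G ⧸ Φ := MonoidHom.mk' (fun r => ρ r * (ρ a0 * ρ r * (ρ a0)⁻¹)) fun r r' => by
      have hr : ρ r ∈ M := ⟨r, hRQ r.2, rfl⟩
      have hr' : ρ r' ∈ M := ⟨r', hRQ r'.2, rfl⟩
      rw [Subgroup.coe_mul, map_mul]
      calc ρ r * ρ r' * (ρ a0 * (ρ r * ρ r') * (ρ a0)⁻¹)
          = ρ r * (ρ r' * (ρ a0 * ρ r * (ρ a0)⁻¹)) * (ρ a0 * ρ r' * (ρ a0)⁻¹) := by group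
        _ = ρ r * ((ρ a0 * ρ r * (ρ a0)⁻¹) * ρ r') * (ρ a0 * ρ r' * (ρ a0)⁻¹) := by
            rw [hMcomm _ hr' _ (hMc _ hr)]
        _ = _ := by group
    have hker : (R ⊓ centralizer (V : Set G)).subgroupOf R ≤ g.ker := by
      intro r hr
      rw [mem_subgroupOf] at hr
      rw [MonoidHom.mem_ker]
      show ρ r * (ρ a0 * ρ r * (ρ a0)⁻¹) = 1
      rw [← map_inv, ← map_mul, ← map_mul, mem_centralizer_iff.1 (mem_inf.1 hr).2 a0 ha0,
        mul_inv_cancel_right, ← map_mul]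
      exact (map_mul ρ _ _).trans (by rw [← pow_two, hMe.2 _ ⟨r, hRQ r.2, rfl⟩])
    have hinj : Nat.card ↥E ≤ Nat.card ↥g.range * Nat.card ↥E1 := by
      have hEa : ∀ e ∈ E, ρ a0 * e * (ρ a0)⁻¹ ∈ E := fun e he => (mem_normalizer_iff.1 haE e).1 he
      let d : ↥E →* ↥E := MonoidHom.mk' (fun e => ⟨e * (ρ a0 * e * (ρ a0)⁻¹), mul_mem e.2 (hEa e e.2)⟩)
        fun e e' => Subtype.ext (by
          simp only [Subgroup.coe_mul]
          calc (e : G ⧸ Φ) * e' * (ρ a0 * (e * e') * (ρ a0)⁻¹)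
              = (e : G ⧸ Φ) * (e' * (ρ a0 * e * (ρ a0)⁻¹)) * (ρ a0 * e' * (ρ a0)⁻¹) := by group
            _ = (e : G ⧸ Φ) * ((ρ a0 * e * (ρ a0)⁻¹) * e') * (ρ a0 * e' * (ρ a0)⁻¹) := by
                rw [hMcomm _ (hEM e'.2) _ (hMc _ (hEM e.2))]
            _ = _ := by group)
      have hdker : Nat.card ↥d.ker ≤ Nat.card ↥E1 := by
        refine Nat.card_le_card_of_injective (fun e => ⟨((e : ↥E) : G ⧸ Φ), e.1.2, ?_⟩)
          fun e e' hee => Subtype.ext (Subtype.ext (congrArg Subtype.val hee :))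
        refine mem_centralizer_singleton_iff.2 ?_
        have h1 : ((e : ↥E) : G ⧸ Φ) * (ρ a0 * e * (ρ a0)⁻¹) = 1 := congrArg Subtype.val e.2
        rw [mul_eq_one_iff_eq_inv, inv_eq_of_mul_eq_one_right
          (show ρ a0 * ((e : ↥E) : G ⧸ Φ) * (ρ a0)⁻¹ * (ρ a0 * e * (ρ a0)⁻¹) = 1 by
            rw [← pow_two]; exact hEe.2 _ (hEa _ e.1.2))] at h1
        conv_lhs => rw [h1]
        group
      have hzE : ρ z ∈ normalizer (E : Set (G ⧸ Φ)) := hEy (hzy ▸ mem_zpowers _)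
      have hrange : Nat.card ↥d.range ≤ Nat.card ↥g.range := by
        have hlift' : ∀ t : ↥d.range, ∃ r : ↥R, ρ r = ρ z * ((t : ↥E) : G ⧸ Φ) * (ρ z)⁻¹ := by
          rintro ⟨_, e, rfl⟩
          obtain ⟨m, hm, hme⟩ := hEM e.2
          obtain ⟨v, hv⟩ : ∃ v, v = m⁻¹ * (a0 * m * a0⁻¹) := ⟨_, rfl⟩
          have hvV : v ∈ V := by
            rw [hv, show m⁻¹ * (a0 * m * a0⁻¹) = m⁻¹ * a0 * m⁻¹⁻¹ * a0⁻¹ by group]
            exact mul_mem ((mem_normalizer_iff.1 (h.norm (hQS (inv_mem hm))) a0).1 ha0) (inv_mem ha0)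
          have hvQ : v ∈ Q := by
            rw [hv]; exact mul_mem (inv_mem hm) ((inferInstance : Q.Normal).conj_mem m hm a0)
          refine ⟨⟨z * v * z⁻¹, ⟨v, ⟨hvV, hvQ⟩, rfl⟩⟩, ?_⟩
          show ρ (z * v * z⁻¹) = ρ z * ((e : G ⧸ Φ) * (ρ a0 * e * (ρ a0)⁻¹)) * (ρ z)⁻¹
          rw [map_mul, map_mul, map_inv, hv, map_mul, map_mul, map_mul, map_inv, map_inv, hme,
            inv_eq_of_mul_eq_one_right (show (e : G ⧸ Φ) * e = 1 by rw [← pow_two]; exact hEe.2 _ e.2)]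
        choose r hr using hlift'
        refine Nat.card_le_card_of_injective (fun t => ⟨g (r t), r t, rfl⟩) fun t t' htt => ?_
        have hgr : ∀ t, g (r t) = ρ z * ((t : ↥E) : G ⧸ Φ) * (ρ z)⁻¹ *
            ((ρ z)⁻¹ * ((t : ↥E) : G ⧸ Φ) * ρ z) := by
          intro t
          show ρ (r t) * (ρ a0 * ρ (r t) * (ρ a0)⁻¹) = _
          rw [hr]
          congr 1
          obtain ⟨_, e, rfl⟩ := t
          have hfix : ρ a0 * ((e : G ⧸ Φ) * (ρ a0 * e * (ρ a0)⁻¹)) * (ρ a0)⁻¹ =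
              (e : G ⧸ Φ) * (ρ a0 * e * (ρ a0)⁻¹) := by
            calc ρ a0 * ((e : G ⧸ Φ) * (ρ a0 * e * (ρ a0)⁻¹)) * (ρ a0)⁻¹
                = (ρ a0 * e * (ρ a0)⁻¹) * ((ρ a0 * ρ a0) * e * (ρ a0 * ρ a0)⁻¹) := by group
              _ = _ := by
                rw [hρaa, one_mul, inv_one, mul_one]
                exact hMcomm _ (hMc _ (hEM e.2)) _ (hEM e.2)
          show ρ a0 * (ρ z * ((e : G ⧸ Φ) * (ρ a0 * e * (ρ a0)⁻¹)) * (ρ z)⁻¹) * (ρ a0)⁻¹ =
            (ρ z)⁻¹ * ((e : G ⧸ Φ) * (ρ a0 * e * (ρ a0)⁻¹)) * ρ z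
          calc _ = (ρ a0 * ρ z * (ρ a0)⁻¹) * (ρ a0 * ((e : G ⧸ Φ) * (ρ a0 * e * (ρ a0)⁻¹)) * (ρ a0)⁻¹) *
                (ρ a0 * ρ z * (ρ a0)⁻¹)⁻¹ := by group
            _ = _ := by rw [hzinv, hfix, inv_inv]
        have e1 : g (r t) = g (r t') := congrArg Subtype.val htt
        rw [hgr, hgr] at e1
        obtain ⟨u, hu⟩ : ∃ u, u = ((t : ↥E) : G ⧸ Φ) * ((t' : ↥E) : G ⧸ Φ) := ⟨_, rfl⟩
        have huE : u ∈ E := hu ▸ mul_mem t.1.2 t'.1.2
        have hsq : ∀ e ∈ E, e * e = 1 := fun e he => by rw [← pow_two]; exact hEe.2 e he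
        have hcz : ∀ e ∈ E, ρ z * e * (ρ z)⁻¹ ∈ E := fun e he => (mem_normalizer_iff.1 hzE e).1 he
        have hcz' : ∀ e ∈ E, (ρ z)⁻¹ * e * ρ z ∈ E := fun e he => (mem_normalizer_iff''.1 hzE e).1 he
        have h2 : ρ z * u * (ρ z)⁻¹ * ((ρ z)⁻¹ * u * ρ z) = 1 := by
          set A1 := ρ z * ((t : ↥E) : G ⧸ Φ) * (ρ z)⁻¹
          set A2 := (ρ z)⁻¹ * ((t : ↥E) : G ⧸ Φ) * ρ z
          set B1 := ρ z * ((t' : ↥E) : G ⧸ Φ) * (ρ z)⁻¹
          set B2 := (ρ z)⁻¹ * ((t' : ↥E) : G ⧸ Φ) * ρ z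
          calc ρ z * u * (ρ z)⁻¹ * ((ρ z)⁻¹ * u * ρ z) = A1 * (B1 * A2) * B2 := by
                simp only [hu, A1, A2, B1, B2]; group
            _ = A1 * (A2 * B1) * B2 := by
              rw [hMcomm _ (hEM (hcz _ t'.1.2)) _ (hEM (hcz' _ t.1.2))]
            _ = (A1 * A2) * (B1 * B2) := by group
            _ = 1 := by
              rw [e1]
              exact hsq _ (mul_mem (hcz _ t'.1.2) (hcz' _ t'.1.2))
        rw [mul_eq_one_iff_eq_inv, inv_eq_of_mul_eq_one_right (hsq _ (hcz' _ huE))] at h2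
        have h3 : Commute (ρ z ^ 2) u := by
          rw [commute_iff_eq, pow_two]
          calc ρ z * ρ z * u = ρ z * (ρ z * u * (ρ z)⁻¹) * ρ z := by group
            _ = ρ z * ((ρ z)⁻¹ * u * ρ z) * ρ z := by rw [h2]
            _ = u * (ρ z * ρ z) := by group
        obtain ⟨m, hm⟩ := hoz.symm ▸ hp.odd_of_ne_two hp2
        have h4 : (ρ z ^ 2) ^ (m + 1) = ρ z := by
          rw [← pow_mul, show 2 * (m + 1) = 2 * m + 1 + 1 by ring, pow_succ, ← hm,
            pow_orderOf_eq_one, one_mul]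
        have hcu : Commute (ρ z) u := h4 ▸ h3.pow_left (m + 1)
        obtain ⟨m', hm'⟩ := mem_zpowers_iff.1 (show ρ y ∈ zpowers (ρ z) from hzy ▸ mem_zpowers _)
        have hu1 := hfix0 u huE (hm' ▸ hcu.zpow_left m').eq
        rw [hu, mul_eq_one_iff_eq_inv, inv_eq_of_mul_eq_one_right (hsq _ t'.1.2)] at hu1
        exact Subtype.ext (Subtype.ext hu1)
      calc Nat.card ↥E = Nat.card ↥d.ker * Nat.card ↥d.range := by
            rw [← index_ker]; exact (card_mul_index d.ker).symm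
        _ ≤ Nat.card ↥E1 * Nat.card ↥g.range := Nat.mul_le_mul hdker hrange
        _ = _ := mul_comm _ _
    have hk2 : Nat.card ↥(R ⊓ centralizer (V : Set G)) * 2 ^ i ≤ Nat.card V0 := by
      have hE1 : Nat.card ↥E1 * 2 ^ i = Nat.card ↥E := by rw [← hi]; exact card_mul_relIndex inf_le_left
      have h1 : 2 ^ i ≤ Nat.card ↥g.range := by
        rw [← hE1, mul_comm (Nat.card ↥g.range)] at hinj
        exact Nat.le_of_mul_le_mul_left hinj Nat.card_pos
      have h2 : Nat.card ↥(R ⊓ centralizer (V : Set G)) ≤ Nat.card ↥g.ker := by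
        rw [← Nat.card_congr (subgroupOfEquivOfLe
          (inf_le_left : R ⊓ centralizer (V : Set G) ≤ R)).toEquiv]
        exact card_le_of_le hker
      calc _ ≤ Nat.card ↥g.ker * Nat.card ↥g.range := Nat.mul_le_mul h2 h1
        _ = Nat.card ↥R := by rw [← index_ker]; exact card_mul_index g.ker
        _ = _ := hRn
    refine ⟨?_, hk2⟩
    have hne' : ¬ R ≤ centralizer (V : Set G) := by
      intro hc
      rw [inf_eq_left.2 hc, hRn] at hk2
      have h2i : 2 ≤ 2 ^ i := Nat.le_self_pow hi0 2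
      have := lt_of_lt_of_le (lt_mul_of_one_lt_right (Nat.card_pos (α := ↥V0)) h2i) hk2
      omega
    have hel : ElAct R V := ElAct.of_elementary (Cfsg.Lib.Thompson.isEA_map _
      ⟨⟨⟨fun u v => Subtype.ext (Cfsg.Lib.Thompson.isEA_commute h.elem u.2.1 v.2.1).eq⟩⟩,
        fun u hu => h.elem.2 u hu.1⟩)
    have hstr := h.strict R (hRQ.trans hQS) hel hne'
    set C1 := V ⊓ centralizer (R : Set G) with hC1
    have hVBle : VB ≤ V0 ⊔ C1 := by
      intro b hb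
      obtain ⟨v, hv, hbv⟩ := hzl b hb
      have hm : b * v ∈ C1 := by
        refine mem_inf.2 ⟨mul_mem (mem_inf.1 hb).1 hv.1, mem_centralizer_iff.2 ?_⟩
        rintro _ ⟨u, hu, rfl⟩
        show z * u * z⁻¹ * (b * v) = (b * v) * (z * u * z⁻¹)
        have c1 : Commute u (b * v) := Cfsg.Lib.Thompson.isEA_commute h.elem hu.1 (mul_mem (mem_inf.1 hb).1 hv.1)
        have c2 : Commute z (b * v) := hbv
        exact ((c2.mul_left c1).mul_left c2.inv_left).eq
      have e : b = b * v * v⁻¹ := by group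
      rw [e]
      exact mul_mem (mem_sup_right hm) (mem_sup_left (inv_mem hv))
    have hcVB : Nat.card VB * Nat.card ↥(V0 ⊓ centralizer (R : Set G)) ≤ Nat.card V0 * Nat.card C1 := by
      haveI : (V0.subgroupOf V).Normal := ⟨fun n hn g => by
        rw [mem_subgroupOf] at hn ⊢
        push_cast
        rw [(Cfsg.Lib.Thompson.isEA_commute h.elem g.2 n.2).eq, mul_inv_cancel_right]
        exact hn⟩
      have h1 : Nat.card ↥(V0 ⊔ C1) * Nat.card ↥(V0 ⊓ C1) = Nat.card V0 * Nat.card C1 := by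
        have hrel : V0.relIndex (V0 ⊔ C1) = V0.relIndex C1 := by
          have hV0 : V0 ≤ V := inf_le_left
          have hC1V : C1 ≤ V := inf_le_left
          rw [← relIndex_subgroupOf (H := V0) (sup_le hV0 hC1V), subgroupOf_sup hV0 hC1V,
            relIndex_sup_left, relIndex_subgroupOf hC1V]
        rw [← card_mul_relIndex (inf_le_right : V0 ⊓ C1 ≤ C1),
          ← card_mul_relIndex (le_sup_left : V0 ≤ V0 ⊔ C1), inf_relIndex_right,
          hrel]
        ring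
      rw [show V0 ⊓ C1 = V0 ⊓ centralizer (R : Set G) by
        rw [hC1, ← inf_assoc, inf_eq_left.2 (inf_le_left : V0 ≤ V)]] at h1
      exact (Nat.mul_le_mul_right _ (card_le_of_le hVBle)).trans h1.le
    set R2 := V0.map (MulAut.conj z⁻¹).toMonoidHom with hR2
    have hk : Nat.card ↥(R2 ⊓ centralizer (V : Set G)) ≤ Nat.card ↥(V0 ⊓ centralizer (R : Set G)) := by
      have he : (R2 ⊓ centralizer (V : Set G)).map (MulAut.conj z).toMonoidHom ≤
          V0 ⊓ centralizer (R : Set G) := by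
        rintro _ ⟨t, ⟨⟨u, hu, rfl⟩, htV⟩, rfl⟩
        have et : (MulAut.conj z).toMonoidHom ((MulAut.conj z⁻¹).toMonoidHom u) = u := by simp [mul_assoc]
        rw [et]
        refine mem_inf.2 ⟨hu, mem_centralizer_iff.2 ?_⟩
        rintro _ ⟨v, hv, rfl⟩
        have hc := mem_centralizer_iff.1 htV v hv.1
        have h5 := congrArg (MulAut.conj z).toMonoidHom hc
        rw [map_mul, map_mul, et] at h5
        exact h5
      exact (card_map_of_injective (MulAut.conj z).injective).ge.trans (card_le_of_le he)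
    have hcardV : Nat.card V ≤ s * Nat.card VB := by
      have h1 : (B.comap π).relIndex V = B.relIndex Ā := relIndex_comap _ _ _
      have h2 : Nat.card VB * (B.comap π).relIndex V = Nat.card V := by
        rw [hVB, ← inf_relIndex_left V (B.comap π)]
        exact card_mul_relIndex inf_le_left
      have h3 : B.relIndex Ā ≤ s := by
        have h4 : Nat.card B * B.relIndex Ā = Nat.card Ā := card_mul_relIndex hB
        rw [← h4] at hcard
        exact Nat.le_of_mul_le_mul_left hcard Nat.card_pos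
      rw [← h2, mul_comm s]
      exact Nat.mul_le_mul_left _ (h1 ▸ h3)
    set n0 := Nat.card V0
    set k1 := Nat.card ↥(R ⊓ centralizer (V : Set G))
    set k2 := Nat.card ↥(R2 ⊓ centralizer (V : Set G))
    rw [hRn] at hstr
    have h5 : Nat.card VB * k2 ≤ n0 * Nat.card C1 := (Nat.mul_le_mul_left _ hk).trans hcVB
    refine Nat.lt_of_mul_lt_mul_left (a := Nat.card VB ^ 2) ?_
    calc Nat.card VB ^ 2 * (n0 * k2 ^ 2) = n0 * (Nat.card VB * k2) ^ 2 := by ring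
      _ ≤ n0 * (n0 * Nat.card C1) ^ 2 := Nat.mul_le_mul_left _ (Nat.pow_le_pow_left h5 _)
      _ = n0 ^ 3 * Nat.card C1 ^ 2 := by ring
      _ < Nat.card V ^ 2 * k1 ^ 3 := hstr
      _ ≤ (s * Nat.card VB) ^ 2 * k1 ^ 3 := Nat.mul_le_mul_right _ (Nat.pow_le_pow_left hcardV _)
      _ = Nat.card VB ^ 2 * (s ^ 2 * k1 ^ 3) := by ring
  obtain ⟨ha1, hb1⟩ := main y hρy hρinv rfl hlift
  obtain ⟨ha2, hb2⟩ := main y⁻¹ (by rw [map_inv, orderOf_inv, hρy])
    (by rw [map_inv, inv_inv, show ρ a0 * (ρ y)⁻¹ * (ρ a0)⁻¹ = (ρ a0 * ρ y * (ρ a0)⁻¹)⁻¹ by group,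
          hρinv, inv_inv])
    (by rw [map_inv, zpowers_inv]) fun b hb => by
      obtain ⟨v, hv, hc⟩ := hlift b hb
      exact ⟨v, hv, (show Commute y (b * v) from hc).inv_left.eq⟩
  rw [inv_inv] at ha2
  set n0 := Nat.card V0
  set k1 := Nat.card ↥(V0.map (MulAut.conj y).toMonoidHom ⊓ centralizer (V : Set G))
  set k2 := Nat.card ↥(V0.map (MulAut.conj y⁻¹).toMonoidHom ⊓ centralizer (V : Set G))
  have hk1 : 0 < k1 := Nat.card_pos
  have hk2 : 0 < k2 := Nat.card_pos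
  have h6 : n0 ^ 2 * (k1 * k2) ^ 2 < s ^ 4 * (k1 * k2) ^ 3 := by
    calc n0 ^ 2 * (k1 * k2) ^ 2 = (n0 * k2 ^ 2) * (n0 * k1 ^ 2) := by ring
      _ < (s ^ 2 * k1 ^ 3) * (s ^ 2 * k2 ^ 3) := Nat.mul_lt_mul'' ha1 ha2
      _ = _ := by ring
  have h7 : s ^ 4 * (k1 * k2) ^ 3 ≤ n0 ^ 2 * (k1 * k2) ^ 2 := by
    calc s ^ 4 * (k1 * k2) ^ 3 = (s ^ 2) ^ 2 * (k1 * k2) * (k1 * k2) ^ 2 := by ring
      _ ≤ (2 ^ i) ^ 2 * (k1 * k2) * (k1 * k2) ^ 2 :=
          Nat.mul_le_mul_right _ (Nat.mul_le_mul_right _ (Nat.pow_le_pow_left hs2 _))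
      _ = (k1 * 2 ^ i) * (k2 * 2 ^ i) * (k1 * k2) ^ 2 := by ring
      _ ≤ n0 * n0 * (k1 * k2) ^ 2 := Nat.mul_le_mul_right _ (Nat.mul_le_mul hb1 hb2)
      _ = _ := by ring
  omega

end Cfsg.Lib.Local.Triple
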