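import Cfsg.Agent.Lib.Local.Triple.Base
import Cfsg.Agent.Lib.Local.TriBound.Dual
import Cfsg.Agent.Lib.Local.SFour

/-!
The hypotheses of the factorization theorem and the bound for the action on a normal elementary
abelian subgroup.
-/

set_option autoImplicit false

universe u v

open scoped commutatorElement

namespace Cfsg.Lib.Local.Triple

open Subgroup Cfsg.Lib.Core

/-- Every non-abelian simple quotient of a subnormal subgroup is in the two families or has odd order. -/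
def Fac (G : Type u) [Group G] : Prop :=
  ∀ (H : Subgroup G), H.IsSubnormal → ∀ (N : Subgroup H) [N.Normal],
    IsSimpleGroup (H ⧸ N) → ¬ IsMulCommutative (H ⧸ N) →
      Cfsg.IsSuzukiOrPSL2OddPowerThree (H ⧸ N) ∨ Odd (Nat.card (H ⧸ N))

theorem suzPSL_of_equiv {P : Type u} {Q : Type v} [Group P] [Group Q] (e : P ≃* Q)
    (h : Cfsg.IsSuzukiOrPSL2OddPowerThree Q) : Cfsg.IsSuzukiOrPSL2OddPowerThree P := by
  rcases h with ⟨F, iF, iFt, m, hm, hF, ⟨e'⟩⟩ | ⟨F, iF, iFt, n, hF, ⟨e'⟩⟩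
  · exact Or.inl ⟨F, iF, iFt, m, hm, hF, ⟨e.trans e'⟩⟩
  · exact Or.inr ⟨F, iF, iFt, n, hF, ⟨e.trans e'⟩⟩

theorem Fac.apply {G : Type u} [Group G] (h : Fac G) {H : Subgroup G} (hH : H.IsSubnormal)
    {P : Type v} [Group P] (f : H →* P) (hf : Function.Surjective f) (hP : IsSimpleGroup P)
    (hnc : ¬ IsMulCommutative P) : Cfsg.IsSuzukiOrPSL2OddPowerThree P ∨ Odd (Nat.card P) := by
  haveI := hP.toNontrivial
  let e : ↥H ⧸ f.ker ≃* P := QuotientGroup.quotientKerEquivOfSurjective f hf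
  haveI : Nontrivial (↥H ⧸ f.ker) := e.surjective.nontrivial
  have hs : IsSimpleGroup (↥H ⧸ f.ker) :=
    IsSimpleGroup.isSimpleGroup_of_surjective e.symm.toMonoidHom e.symm.surjective
  have hn : ¬ IsMulCommutative (↥H ⧸ f.ker) := fun hc => hnc ⟨⟨fun a b => e.symm.injective (by
    rw [map_mul, map_mul]; exact hc.is_comm.comm _ _)⟩⟩
  rcases h H hH f.ker hs hn with h1 | h1
  · exact Or.inl (suzPSL_of_equiv e.symm h1)
  · exact Or.inr (by rwa [← Nat.card_congr e.toEquiv])

theorem Fac.of_composition {G : Type u} [Group G]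
    (h : Cfsg.IsCompositionKGroupWith Cfsg.IsSuzukiOrPSL2OddPowerThree G) : Fac G :=
  fun H hH N _ hs hn => Or.inl (h H hH N hs hn)

theorem Fac.of_surjective {G : Type u} [Group G] {K : Type v} [Group K] (h : Fac G) (f : G →* K)
    (hf : Function.Surjective f) : Fac K := by
  intro H hH N _ hs hn
  refine h.apply (hH.comap f) ((QuotientGroup.mk' N).comp (f.subgroupComap H)) ?_ hs hn
  refine (QuotientGroup.mk'_surjective N).comp fun y => ?_
  obtain ⟨x, hx⟩ := hf y
  exact ⟨⟨x, by rw [mem_comap, hx]; exact y.2⟩, Subtype.ext hx⟩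

theorem Fac.of_equiv {G : Type u} [Group G] {K : Type v} [Group K] (h : Fac G) (e : G ≃* K) : Fac K :=
  h.of_surjective e.toMonoidHom e.surjective

theorem Fac.subnormal {G : Type u} [Group G] (h : Fac G) {H : Subgroup G} (hH : H.IsSubnormal) :
    Fac ↥H := by
  intro K hK N _ hs hn
  refine h.apply (H := K.map H.subtype) (hK.trans' hH)
    ((QuotientGroup.mk' N).comp (K.equivMapOfInjective _ H.subtype_injective).symm.toMonoidHom) ?_ hs hn
  exact (QuotientGroup.mk'_surjective N).comp (K.equivMapOfInjective _ H.subtype_injective).symm.surjective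

theorem comm_of_isPGroup_simple {P : Type u} [Group P] [Finite P] {p : ℕ} [Fact p.Prime]
    (hp : IsPGroup p P) (hs : IsSimpleGroup P) : IsMulCommutative P := by
  haveI : Nontrivial ↥(center P) := hp.center_nontrivial
  rcases hs.eq_bot_or_eq_top_of_normal (center P) inferInstance with h | h
  · exact absurd h ((nontrivial_iff_ne_bot _).1 inferInstance)
  · exact ⟨⟨fun a b => mem_center_iff.1 (h ▸ mem_top b) a⟩⟩

theorem fac_of_isPGroup {G : Type u} [Group G] [Finite G] {p : ℕ} [Fact p.Prime] (hp : IsPGroup p G) :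
    Fac G := fun H _ N _ hs hn => absurd (comm_of_isPGroup_simple ((hp.to_subgroup H).to_quotient N) hs) hn

theorem fac_of_odd {G : Type u} [Group G] [Finite G] (h : Odd (Nat.card G)) : Fac G :=
  fun H _ N _ _ _ => Or.inr (h.of_dvd_nat ((card_quotient_dvd_card N).trans (card_subgroup_dvd_card H)))

theorem fac_ext {G : Type u} [Group G] (N : Subgroup G) [N.Normal] (h1 : Fac ↥N) (h2 : Fac (G ⧸ N)) :
    Fac G := by
  intro H hH M _ hs hn
  set π := QuotientGroup.mk' M with hπ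
  have hNn : ((N.subgroupOf H).map π).Normal :=
    (inferInstance : (N.subgroupOf H).Normal).map π (QuotientGroup.mk'_surjective M)
  rcases hs.eq_bot_or_eq_top_of_normal _ hNn with hb | ht
  · have hle : N.subgroupOf H ≤ M := by
      rw [Subgroup.map_eq_bot_iff, hπ, QuotientGroup.ker_mk'] at hb
      exact hb
    set H' := H.map (QuotientGroup.mk' N)
    set ψ : ↥H →* ↥H' := (QuotientGroup.mk' N).subgroupMap H
    have hψ : Function.Surjective ψ := (QuotientGroup.mk' N).subgroupMap_surjective H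
    have hker : ψ.ker ≤ M := fun x hx => hle (by
      rw [mem_subgroupOf]
      have := congrArg Subtype.val (MonoidHom.mem_ker.1 hx)
      exact (QuotientGroup.eq_one_iff (x : G)).1 this)
    refine h2.apply (hH.map (QuotientGroup.mk'_surjective N)) (H := H') (MonoidHom.liftOfSurjective ψ hψ ⟨π, by
      rw [hπ, QuotientGroup.ker_mk']; exact hker⟩) ?_ hs hn
    intro y
    obtain ⟨x, rfl⟩ := QuotientGroup.mk'_surjective M y
    exact ⟨ψ x, MonoidHom.liftOfRightInverse_comp_apply _ _ _ _ x⟩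
  · set K : Subgroup ↥N := H.subgroupOf N
    have hK : K.IsSubnormal := hH.subgroupOf
    let ι : ↥K →* ↥H := MonoidHom.mk' (fun x => ⟨((x : ↥N) : G), x.2⟩) fun _ _ => rfl
    refine h1.apply hK (π.comp ι) ?_ hs hn
    intro y
    obtain ⟨x, hx, rfl⟩ : y ∈ (N.subgroupOf H).map π := ht ▸ mem_top y
    exact ⟨⟨⟨(x : G), hx⟩, x.2⟩, rfl⟩

/-- The standing hypotheses. -/
structure Hyp (G : Type u) [Group G] : Prop where
  cons : centralizer (Cfsg.pCore 2 G : Set G) ≤ Cfsg.pCore 2 G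
  free : ¬ Cfsg.Involves (Equiv.Perm (Fin 4)) G
  fac : Fac G

open Cfsg.Lib.Local.TriBound in
theorem good_of_fac {Γ : Type u} [Group Γ] [Finite Γ] (hO : Cfsg.pCore 2 Γ = ⊥) (hc : Fac Γ)
    (E : Subgroup Γ) (hE : Cfsg.IsComponent E) (hEO : ¬ E ≤ Cfsg.pPrimeCore 2 Γ) :
    Good (↥E ⧸ center ↥E) := by
  haveI : Fact (Nat.Prime 2) := ⟨Nat.prime_two⟩
  have hsimp : IsSimpleGroup (↥E ⧸ center ↥E) := hE.2.2
  have hnab : ¬ IsMulCommutative (↥E ⧸ center ↥E) := by
    intro h
    have h1 := hom_trivial_of_perfect hE.2.1 (QuotientGroup.mk' (center ↥E))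
      fun a b => h.is_comm.comm _ _
    have : Subsingleton (↥E ⧸ center ↥E) := ⟨fun x y => by
      induction x using QuotientGroup.induction_on with
      | H a =>
        induction y using QuotientGroup.induction_on with
        | H b => exact (h1 a).trans (h1 b).symm⟩
    exact (not_subsingleton_iff_nontrivial.2 hsimp.toNontrivial) this
  rcases hc E hE.1 (center ↥E) hsimp hnab with h | h
  · rcases h with ⟨F, iF, iFt, m, hm, hF, ⟨e⟩⟩ | ⟨F, iF, iFt, n, hF, ⟨e⟩⟩
    · exact (good_suzuki hm hF).of_equiv e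
    · rcases Nat.eq_zero_or_pos n with rfl | hn
      · exfalso
        have hc2 := Cfsg.Lib.Linear.Two.card_PSL_two (F := F)
        rw [hF, show Nat.gcd 2 (3 ^ (2 * 0 + 1) - 1) = 2 from rfl, ← Nat.card_congr e.toEquiv] at hc2
        have hlt : Nat.card (↥E ⧸ center ↥E) < 60 := by
          simp only [Nat.mul_zero, Nat.zero_add, pow_one] at hc2
          omega
        have := Cfsg.Lib.Recog.Icosa.solvable_of_lt_sixty _ _ rfl hlt
        exact hnab ⟨⟨(IsSimpleGroup.comm_iff_isSolvable).2 this⟩⟩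
      · exact (good_psl_three hn hF).of_equiv e
  · exfalso
    refine hEO (le_pPrimeCore_of_isSubnormal hE.1 ?_)
    rw [Nat.coprime_two_right]
    by_contra hcon
    rw [Nat.not_odd_iff_even, even_iff_two_dvd] at hcon
    have hZ : 2 ∣ Nat.card (center ↥E) := by
      rw [card_eq_card_quotient_mul_card_subgroup (center ↥E)] at hcon
      exact (Nat.prime_two.dvd_mul.1 hcon).resolve_left fun h2 =>
        (Nat.not_even_iff_odd.2 h) (even_iff_two_dvd.2 h2)
    obtain ⟨z, hz⟩ := exists_prime_orderOf_dvd_card' 2 hZ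
    have hN : (zpowers (z : ↥E)).Normal := ⟨fun n hn g => by
      rw [mem_center_iff.1 ((zpowers_le).2 z.2 hn) g, mul_inv_cancel_right]
      exact hn⟩
    have hS : ((zpowers (z : ↥E)).map E.subtype).IsSubnormal := hN.isSubnormal.trans' hE.1
    have hp : IsPGroup 2 ↥((zpowers (z : ↥E)).map E.subtype) := by
      refine IsPGroup.of_card (n := 1) ?_
      rw [card_map_of_injective E.subtype_injective, Nat.card_zpowers, orderOf_coe, hz, pow_one]
    have hmem : (z : Γ) ∈ Cfsg.pCore 2 Γ :=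
      le_pCore_of_isSubnormal hS hp ⟨z, mem_zpowers _, rfl⟩
    rw [hO, mem_bot] at hmem
    rw [show z = 1 from Subtype.ext (Subtype.ext hmem), orderOf_one] at hz
    exact absurd hz (by norm_num)

theorem exists_part {G : Type u} [Group G] [Finite G] (g : G) {p : ℕ} (hp : p.Prime) :
    ∃ m k : ℕ, ¬ p ∣ m ∧ orderOf (g ^ m) = p ^ k := by
  obtain ⟨k, m, hm, he⟩ := Nat.exists_eq_pow_mul_and_not_dvd (orderOf_pos g).ne' p hp.ne_one
  refine ⟨m, k, hm, ?_⟩
  have hm0 : 0 < m := Nat.pos_of_ne_zero fun h => hm (h ▸ dvd_zero p)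
  rw [orderOf_pow' g hm0.ne', he, Nat.gcd_mul_left_left, Nat.mul_div_cancel _ hm0]

/-- Without a section `S₄`, the action on a normal `2`-subgroup has no section `S₃`. -/
theorem three_of_four {G : Type u} [Group G] [Finite G] {Γ : Type v} [Group Γ]
    (hfree : ¬ Cfsg.Involves (Equiv.Perm (Fin 4)) G) (f : G →* Γ) (hf : Function.Surjective f)
    (V : Subgroup G) [V.Normal] (hV : IsPGroup 2 ↥V) (hker : f.ker = centralizer (V : Set G)) :
    ∀ x a : Γ, x ^ 3 = 1 → a * a = 1 → a * x * a⁻¹ = x⁻¹ → x = 1 := by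
  intro x a hx ha hxa
  obtain ⟨x0, rfl⟩ := hf x
  obtain ⟨a0, rfl⟩ := hf a
  obtain ⟨m, k, hm, hk⟩ := exists_part x0 Nat.prime_three
  obtain ⟨n, j, hn, hj⟩ := exists_part a0 Nat.prime_two
  by_contra hne
  have hfa : f (a0 ^ n) = f a0 := by
    obtain ⟨i, hi⟩ : ∃ i, n = 2 * i + 1 := Nat.odd_iff.2 (Nat.two_dvd_ne_zero.1 hn)
    rw [map_pow, hi, pow_succ, pow_mul, pow_two, ha, one_pow, one_mul]
  have hfx : f (x0 ^ m) ≠ 1 := by
    intro h
    refine hne ?_
    have h1 : orderOf (f x0) ∣ Nat.gcd 3 m :=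
      Nat.dvd_gcd (orderOf_dvd_of_pow_eq_one hx) (orderOf_dvd_of_pow_eq_one (by rw [← map_pow, h]))
    rw [(Nat.prime_three.coprime_iff_not_dvd.2 hm).gcd_eq_one, Nat.dvd_one, orderOf_eq_one_iff] at h1
    exact h1
  have hN : normalizer (V : Set G) = ⊤ := normalizer_eq_top_iff.2 inferInstance
  refine hfree (Cfsg.Lib.Local.involves_four_of_inverted hV (x := a0 ^ n) (y := x0 ^ m)
    (hN ▸ mem_top _) (hN ▸ mem_top _) ⟨j, hj⟩ ⟨k, hk⟩ ?_ ?_ ?_)
  · rw [← hker, MonoidHom.mem_ker, map_pow, map_pow, ← pow_mul, mul_comm, pow_mul, hx, one_pow]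
  · rw [← hker, MonoidHom.mem_ker]; exact hfx
  · rw [← hker, MonoidHom.mem_ker, map_mul, map_mul, map_mul, map_inv, hfa, map_pow, ← conj_pow, hxa,
      inv_pow, inv_mul_cancel]

section Act

variable {G : Type u} [Group G] [Finite G]

open Cfsg.Lib.Local.TriBound in
/-- The two bounds for a group acting as an elementary abelian one on a normal elementary abelian
subgroup with `O₂` of the automizer trivial. -/
theorem bound_act (hfree : ¬ Cfsg.Involves (Equiv.Perm (Fin 4)) G) (hfac : Fac G) (V : Subgroup G)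
    [V.Normal] (hV : Cfsg.IsElementaryAbelian 2 V)
    (hO : Cfsg.pCore 2 (G ⧸ centralizer (V : Set G)) = ⊥) {R : Subgroup G} (hR : ElAct R V) :
    Nat.card R ^ 2 * Nat.card ↥(V ⊓ centralizer (R : Set G)) ≤
        Nat.card V * Nat.card ↥(R ⊓ centralizer (V : Set G)) ^ 2 ∧
      Nat.card R ^ 2 ≤ Nat.card ↥⁅V, R⁆ * Nat.card ↥(R ⊓ centralizer (V : Set G)) ^ 2 := by
  classical
  haveI : Fact (Nat.Prime 2) := ⟨Nat.prime_two⟩
  set C := centralizer (V : Set G) with hC
  have hVp : IsPGroup 2 ↥V := fun v => ⟨1, Subtype.ext (by simpa using hV.2 v.1 v.2)⟩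
  let φ : G ⧸ C →* MulAut ↥V := QuotientGroup.lift C MulAut.conjNormal fun c hc =>
    MulEquiv.ext fun v => Subtype.ext (by
      rw [MulAut.conjNormal_apply, ← mem_centralizer_iff.1 hc v v.2, mul_inv_cancel_right]
      rfl)
  haveI : Finite (↥V ⋊[φ] (G ⧸ C)) := Finite.of_equiv _ SemidirectProduct.equivProd.symm
  let π : ↥V ⋊[MulAut.conjNormal (H := V)] G →* ↥V ⋊[φ] (G ⧸ C) :=
    SemidirectProduct.map (MonoidHom.id _) (QuotientGroup.mk' C) fun g => rfl
  let μ : ↥V ⋊[MulAut.conjNormal (H := V)] G →* G :=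
    SemidirectProduct.lift V.subtype (MonoidHom.id G) fun g => MonoidHom.ext fun v => by
      show ((MulAut.conjNormal g v : ↥V) : G) = g * (v : G) * g⁻¹
      exact MulAut.conjNormal_apply g v
  set inl : ↥V →* ↥V ⋊[φ] (G ⧸ C) := SemidirectProduct.inl with hinl
  set inr : (G ⧸ C) →* ↥V ⋊[φ] (G ⧸ C) := SemidirectProduct.inr with hinr
  have hinlj : Function.Injective inl := SemidirectProduct.inl_injective
  have hinrj : Function.Injective inr := SemidirectProduct.inr_injective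
  have hM' : Cfsg.IsElementaryAbelian 2 inl.range := by
    rw [MonoidHom.range_eq_map]
    refine Cfsg.Lib.Thompson.isEA_map _ ⟨⟨⟨fun a b => Subtype.ext (Subtype.ext ?_)⟩⟩, fun a _ => Subtype.ext ?_⟩
    · exact (Cfsg.Lib.Thompson.isEA_commute hV a.1.2 b.1.2).eq
    · simpa using hV.2 _ a.2
  have hconj : ∀ (g : G) (v : ↥V), inr (g : G ⧸ C) * inl v * (inr (g : G ⧸ C))⁻¹ =
      inl ⟨g * v * g⁻¹, (inferInstance : V.Normal).conj_mem v v.2 g⟩ := fun g v => by
    rw [← map_inv, hinr, hinl, ← SemidirectProduct.inl_aut]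
    congr 1
  have hcomm : ∀ (g : G) (v : ↥V), inl v * inr (g : G ⧸ C) = inr (g : G ⧸ C) * inl v ↔
      g * (v : G) = v * g := fun g v => by
    rw [eq_comm, ← mul_inv_eq_iff_eq_mul, hconj, hinlj.eq_iff, Subtype.ext_iff, mul_inv_eq_iff_eq_mul]
  have hGM' : inr.range ≤ normalizer (inl.range : Set (↥V ⋊[φ] (G ⧸ C))) := by
    haveI : inl.range.Normal := by rw [hinl, SemidirectProduct.range_inl_eq_ker_rightHom]; infer_instance
    exact normalizer_eq_top (H := inl.range) ▸ le_top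
  have hf' : inr.range ⊓ centralizer (inl.range : Set (↥V ⋊[φ] (G ⧸ C))) = ⊥ := by
    rw [eq_bot_iff]
    rintro _ ⟨⟨g, rfl⟩, hg⟩
    obtain ⟨g, rfl⟩ := QuotientGroup.mk'_surjective C g
    rw [mem_bot, QuotientGroup.mk'_apply, (QuotientGroup.eq_one_iff g).2, map_one]
    refine mem_centralizer_iff.2 fun v hv => ((hcomm g ⟨v, hv⟩).1 ?_).symm
    exact mem_centralizer_iff.1 hg _ ⟨_, rfl⟩
  let e : G ⧸ C ≃* ↥inr.range := MonoidHom.ofInjective hinrj
  have hO' : Cfsg.pCore 2 ↥inr.range = ⊥ := by rw [← map_pCore_equiv e, hO, Subgroup.map_bot]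
  have h3 := three_of_four hfree (QuotientGroup.mk' C) (QuotientGroup.mk'_surjective C) V hVp
    (QuotientGroup.ker_mk' C)
  have h3' : ∀ x a : ↥inr.range, x ^ 3 = 1 → a * a = 1 → a * x * a⁻¹ = x⁻¹ → x = 1 := by
    intro x a hx ha hxa
    have := h3 (e.symm x) (e.symm a) (by rw [← map_pow, hx, map_one]) (by rw [← map_mul, ha, map_one])
      (by rw [← map_inv, ← map_mul, ← map_mul, hxa, map_inv])
    exact (MulEquiv.map_eq_one_iff e.symm).1 this
  have hG := good_of_equiv e.symm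
    (good_of_fac hO (hfac.of_surjective _ (QuotientGroup.mk'_surjective C)))
  set R' : Subgroup (↥V ⋊[φ] (G ⧸ C)) := (R.map (QuotientGroup.mk' C)).map inr with hR'
  have hR'e : Cfsg.IsElementaryAbelian 2 R' := by
    refine Cfsg.Lib.Thompson.isEA_map _ ⟨⟨⟨?_⟩⟩, ?_⟩
    · rintro ⟨_, a, ha, rfl⟩ ⟨_, b, hb, rfl⟩
      refine Subtype.ext (commutatorElement_eq_one_iff_mul_comm.1 ?_)
      rw [← map_commutatorElement]
      exact (QuotientGroup.eq_one_iff _).2 (hR.1 (commutator_mem_commutator ha hb))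
    · rintro _ ⟨a, ha, rfl⟩
      rw [← map_pow]
      exact (QuotientGroup.eq_one_iff _).2 (hR.2 a ha)
  have hcR : Nat.card R' * Nat.card ↥(R ⊓ C) = Nat.card R := by
    have h1 := relIndex_ker (K := R) (QuotientGroup.mk' C)
    rw [QuotientGroup.ker_mk'] at h1
    rw [hR', card_map_of_injective hinrj, ← h1, ← inf_relIndex_left R C, mul_comm]
    exact card_mul_relIndex inf_le_left
  have hcV : Nat.card ↥inl.range = Nat.card ↥V :=
    Nat.card_congr (MonoidHom.ofInjective hinlj).toEquiv.symm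
  have hcC : inl.range ⊓ centralizer (R' : Set (↥V ⋊[φ] (G ⧸ C))) =
      ((V ⊓ centralizer (R : Set G)).subgroupOf V).map inl := by
    refine le_antisymm ?_ ?_
    · rintro _ ⟨⟨v, rfl⟩, hv⟩
      refine ⟨v, mem_subgroupOf.2 (mem_inf.2 ⟨v.2, mem_centralizer_iff.2 fun r hr => ?_⟩), rfl⟩
      exact (hcomm r v).1 (mem_centralizer_iff.1 hv _ ⟨_, ⟨r, hr, rfl⟩, rfl⟩).symm
    · rintro _ ⟨v, hv, rfl⟩
      refine mem_inf.2 ⟨⟨v, rfl⟩, mem_centralizer_iff.2 ?_⟩
      rintro _ ⟨_, ⟨r, hr, rfl⟩, rfl⟩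
      exact ((hcomm r v).2 (mem_centralizer_iff.1 (mem_inf.1 (mem_subgroupOf.1 hv)).2 r hr)).symm
  have hcC' : Nat.card ↥(inl.range ⊓ centralizer (R' : Set (↥V ⋊[φ] (G ⧸ C)))) =
      Nat.card ↥(V ⊓ centralizer (R : Set G)) := by
    rw [hcC, card_map_of_injective hinlj, Nat.card_congr (subgroupOfEquivOfLe inf_le_left).toEquiv]
  set Y : Subgroup ↥V := (⁅V, R⁆).subgroupOf V with hY
  have hYle : ⁅V, R⁆ ≤ V := commutator_le_left V R
  have hcY : ⁅inl.range, R'⁆ = Y.map inl := by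
    set i0 : ↥V →* ↥V ⋊[MulAut.conjNormal (H := V)] G := SemidirectProduct.inl with hi0
    set Y0 := ⁅i0.range, R.map (SemidirectProduct.inr (φ := MulAut.conjNormal (H := V)))⁆ with hY0
    haveI : i0.range.Normal := by rw [hi0, SemidirectProduct.range_inl_eq_ker_rightHom]; infer_instance
    have hπ : Y0.map π = ⁅inl.range, R'⁆ := by
      rw [hY0, map_commutator, MonoidHom.map_range, Subgroup.map_map, hR', Subgroup.map_map]
      congr 1
    have hμ : Y0.map μ = ⁅V, R⁆ := by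
      rw [hY0, map_commutator, MonoidHom.map_range, Subgroup.map_map]
      congr 1
      · rw [show μ.comp i0 = V.subtype from MonoidHom.ext fun v => by simp [μ, i0],
          range_subtype]
      · rw [show μ.comp (SemidirectProduct.inr (φ := MulAut.conjNormal (H := V))) = MonoidHom.id G from
          MonoidHom.ext fun g => by simp [μ], Subgroup.map_id]
    have hle : Y0 ≤ i0.range := commutator_le_left _ _
    rw [← hπ]
    refine le_antisymm ?_ ?_
    · rintro _ ⟨z, hz, rfl⟩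
      obtain ⟨v, rfl⟩ := hle hz
      refine ⟨v, mem_subgroupOf.2 (hμ ▸ ⟨_, hz, by simp [μ, i0]⟩), ?_⟩
      exact SemidirectProduct.ext rfl rfl
    · rintro _ ⟨v, hv, rfl⟩
      rw [SetLike.mem_coe, hY, mem_subgroupOf, ← hμ] at hv
      obtain ⟨z, hz, hzv⟩ := hv
      obtain ⟨w, rfl⟩ := hle hz
      rw [show μ (i0 w) = (w : G) by simp [μ, i0]] at hzv
      obtain rfl := Subtype.ext hzv
      exact ⟨_, hz, SemidirectProduct.ext rfl rfl⟩
  have hcY' : Nat.card ↥⁅inl.range, R'⁆ = Nat.card ↥⁅V, R⁆ := by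
    rw [hcY, card_map_of_injective hinlj, Nat.card_congr (subgroupOfEquivOfLe hYle).toEquiv]
  have b1 := bound inl.range inr.range hM' hGM' hf' hO' h3' hG R' (map_le_range _ _) hR'e
  have b2 := bound_commutator inl.range inr.range hM' hGM' hf' hO' h3' hG R' (map_le_range _ _) hR'e
  rw [hcC', hcV] at b1
  rw [hcY'] at b2
  constructor
  · calc Nat.card R ^ 2 * Nat.card ↥(V ⊓ centralizer (R : Set G))
        = Nat.card R' ^ 2 * Nat.card ↥(V ⊓ centralizer (R : Set G)) * Nat.card ↥(R ⊓ C) ^ 2 := by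
          rw [← hcR]; ring
      _ ≤ _ := Nat.mul_le_mul_right _ b1
  · calc Nat.card R ^ 2 = Nat.card R' ^ 2 * Nat.card ↥(R ⊓ C) ^ 2 := by rw [← hcR]; ring
      _ ≤ _ := Nat.mul_le_mul_right _ b2

end Act

end Cfsg.Lib.Local.Triple
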