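import Cfsg.Agent.Lib.Local.Triple.Hat
import Cfsg.Agent.Lib.Local.Triple.Hyp
import Cfsg.Agent.Lib.Local.Sylow
import Cfsg.Agent.Lib.Sig.AbelianFF

/-!
The factorizations `G = C(Z(S)) N(J(S))` and `G = C(Z(S)) N(Ĵ(S))`.
-/

set_option autoImplicit false

universe u

open scoped commutatorElement

namespace Cfsg.Lib.Local.Triple

open Subgroup Cfsg.Lib.Core

variable {G : Type u} [Group G] [Finite G]

/-- Frattini's argument for the intersection of a Sylow subgroup with a normal subgroup. -/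
theorem exists_mul_normalizer (S : Sylow 2 G) (N : Subgroup G) [N.Normal] (g : G) :
    ∃ k ∈ N, ∃ n ∈ normalizer ((((S : Subgroup G) ⊓ N) : Subgroup G) : Set G), g = k * n := by
  haveI : Fact (Nat.Prime 2) := ⟨Nat.prime_two⟩
  obtain ⟨P, hP⟩ := Cfsg.Lib.Local.exists_sylow_inf S N
  have hm : (P : Subgroup ↥N).map N.subtype = (S : Subgroup G) ⊓ N := by
    rw [hP, subgroupOf_map_subtype]
  have htop := Sylow.normalizer_sup_eq_top P
  rw [hm] at htop
  have hg : g ∈ normalizer ((((S : Subgroup G) ⊓ N) : Subgroup G) : Set G) ⊔ N := by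
    rw [htop]; exact mem_top g
  rw [sup_comm, mem_sup_of_normal_left] at hg
  obtain ⟨k, hk, n, hn, rfl⟩ := hg
  exact ⟨k, hk, n, hn, rfl⟩

theorem pCore_le_centralizer_zenter (S : Sylow 2 G) :
    Cfsg.pCore 2 G ≤ centralizer ((((S : Subgroup G) ⊓ centralizer ((S : Subgroup G) : Set G)) : Subgroup G) : Set G) := by
  haveI : Fact (Nat.Prime 2) := ⟨Nat.prime_two⟩
  refine (pCore_le_sylow S).trans ?_
  exact Subgroup.le_centralizer_iff.1 inf_le_right

theorem factor_zenter (hyp : Hyp G) (S : Sylow 2 G) :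
    (∀ g : G, ∃ c ∈ centralizer ((((S : Subgroup G) ⊓ centralizer ((S : Subgroup G) : Set G)) : Subgroup G) : Set G),
        ∃ n ∈ normalizer ((Cfsg.thompsonSubgroupOf 2 (S : Subgroup G)) : Set G), g = c * n) ∧
    (∀ g : G, ∃ c ∈ centralizer ((((S : Subgroup G) ⊓ centralizer ((S : Subgroup G) : Set G)) : Subgroup G) : Set G),
        ∃ n ∈ normalizer ((Hof (S : Subgroup G)) : Set G), g = c * n) := by
  classical
  haveI : Fact (Nat.Prime 2) := ⟨Nat.prime_two⟩
  set Q := Cfsg.pCore 2 G with hQ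
  set Z := (S : Subgroup G) ⊓ centralizer ((S : Subgroup G) : Set G) with hZ
  have hQS : Q ≤ (S : Subgroup G) := pCore_le_sylow S
  have hZQ : Z ≤ Q := (Subgroup.le_centralizer_iff.1 (pCore_le_centralizer_zenter S)).trans hyp.cons
  set V' := normalClosure (Z : Set G) with hV'
  have hV'Q : V' ≤ Q := normalClosure_le_normal hZQ
  have hV'c : V' ≤ centralizer (Q : Set G) :=
    normalClosure_le_normal (Subgroup.le_centralizer_iff.1 (pCore_le_centralizer_zenter S))
  have hcomm : ∀ a ∈ V', ∀ b ∈ V', a * b = b * a := fun a ha b hb =>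
    mem_centralizer_iff.1 (hV'c hb) a (hV'Q ha)
  set C := centralizer (V' : Set G) with hC
  set π := QuotientGroup.mk' C with hπ
  have hπs : Function.Surjective π := QuotientGroup.mk'_surjective C
  have hCZ : C ≤ centralizer (Z : Set G) :=
    centralizer_le (show (Z : Set G) ⊆ (V' : Set G) from subset_normalClosure)
  -- `O₂` of the automizer is trivial
  have hO : Cfsg.pCore 2 (G ⧸ C) = ⊥ := by
    set P := (Cfsg.pCore 2 (G ⧸ C)).comap π with hP
    have hPC : P ≤ C := by
      rw [hC, Subgroup.le_centralizer_iff]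
      refine normalClosure_le_normal ?_
      intro z hz
      refine mem_centralizer_iff.2 fun p hp => ?_
      obtain ⟨s, hs, hsp⟩ := pCore_le_sylow (S.mapSurjective hπs) (show π p ∈ Cfsg.pCore 2 (G ⧸ C) from hp)
      have hc : s⁻¹ * p ∈ C := (QuotientGroup.eq).1 hsp
      have h1 : Commute s z := mem_centralizer_iff.1 hz.2 s hs
      have h2 : Commute (s⁻¹ * p) z := (mem_centralizer_iff.1 hc z (subset_normalClosure hz)).symm
      simpa using (h1.mul_left h2).eq
    rw [← map_comap_eq_self_of_surjective hπs (Cfsg.pCore 2 (G ⧸ C)), Subgroup.map_eq_bot_iff,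
      hπ, QuotientGroup.ker_mk']
    exact hPC
  let V : Subgroup G :=
    { carrier := {v | v ∈ V' ∧ v * v = 1}
      one_mem' := ⟨one_mem _, one_mul 1⟩
      mul_mem' := fun {a b} ha hb => ⟨mul_mem ha.1 hb.1, by
        rw [mul_assoc a b, ← mul_assoc b a b, ← hcomm a ha.1 b hb.1, mul_assoc a b b, hb.2, mul_one, ha.2]⟩
      inv_mem' := fun {a} ha => ⟨inv_mem ha.1, by rw [← mul_inv_rev, ha.2, inv_one]⟩ }
  haveI hVn : V.Normal := ⟨fun v hv g => ⟨(normalClosure_normal).conj_mem v hv.1 g, by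
    rw [show g * v * g⁻¹ * (g * v * g⁻¹) = g * (v * v) * g⁻¹ by group, hv.2]; group⟩⟩
  have hVe : Cfsg.IsElementaryAbelian 2 V :=
    ⟨⟨⟨fun a b => Subtype.ext (hcomm a a.2.1 b b.2.1)⟩⟩, fun a ha => by rw [pow_two]; exact ha.2⟩
  have hVS : V ≤ (S : Subgroup G) := fun v hv => hQS (hV'Q hv.1)
  -- the same centralizer
  have hCV : centralizer (V : Set G) = C := by
    refine le_antisymm ?_ (centralizer_le fun v hv => hv.1)
    have hp : IsPGroup 2 ↥((centralizer (V : Set G)).map π) := by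
      refine Cfsg.Lib.Local.isPGroup_of_forall_coprime fun y hy hcop => ?_
      obtain ⟨x, hx, rfl⟩ := hy
      obtain ⟨k, m, hm, he⟩ := Nat.exists_eq_pow_mul_and_not_dvd (orderOf_pos x).ne' 2 (by norm_num)
      have hxk : x ^ 2 ^ k ∈ C := by
        refine mem_centralizer_iff.2 fun v hv => ?_
        have h1 := Cfsg.Lib.Sig.AbelianFF.odd_fixes_of_omega hcomm ((pCore_isPGroup 2 G).to_le hV'Q)
          (x := x ^ 2 ^ k) (m := m) (Nat.odd_iff.2 (Nat.two_dvd_ne_zero.1 hm))
          (by rw [← pow_mul, ← he, pow_orderOf_eq_one])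
          (fun z hz => (normalClosure_normal).conj_mem z hz _)
          (fun z hz hzz => by
            rw [← mem_centralizer_iff.1 (pow_mem hx (2 ^ k)) z ⟨hz, hzz⟩, mul_inv_cancel_right]) v hv
        exact (mul_inv_eq_iff_eq_mul.1 h1).symm
      have h2 : (π x) ^ 2 ^ k = 1 := by
        rw [← map_pow]; exact (QuotientGroup.eq_one_iff _).2 hxk
      exact orderOf_eq_one_iff.1 (Nat.eq_one_of_dvd_coprimes (hcop.symm.pow_left k)
        (orderOf_dvd_of_pow_eq_one h2) dvd_rfl)
    have h := le_pCore' ((inferInstance : (centralizer (V : Set G)).Normal).map π hπs) hp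
    rw [hO, le_bot_iff, Subgroup.map_eq_bot_iff, hπ, QuotientGroup.ker_mk'] at h
    exact h
  have hO' : Cfsg.pCore 2 (G ⧸ centralizer (V : Set G)) = ⊥ := by
    rw [← map_pCore_equiv (QuotientGroup.quotientMulEquivOfEq hCV).symm, hO, Subgroup.map_bot]
  have hb := fun (R : Subgroup G) (hR : ElAct R V) => bound_act hyp.free hyp.fac V hVe hO' hR
  have hfs : FS (S : Subgroup G) V := by
    refine ⟨hVS, le_normalizer_of_normal, hVe, fun R _ hel hne => ?_⟩
    obtain ⟨h1, -⟩ := hb R hel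
    have hrR : Nat.card ↥(R ⊓ centralizer (V : Set G)) < Nat.card R := by
      refine lt_of_le_of_ne (card_le_of_le inf_le_left) fun e => hne ?_
      exact inf_eq_left.1 (eq_of_le_of_card_ge inf_le_left e.ge)
    set r := Nat.card ↥(R ⊓ centralizer (V : Set G))
    set R₀ := Nat.card R
    set c := Nat.card ↥(V ⊓ centralizer (R : Set G))
    refine Nat.lt_of_mul_lt_mul_left (a := R₀) ?_
    have hpos : 0 < Nat.card V ^ 2 * r ^ 3 := Nat.mul_pos (pow_pos Nat.card_pos _) (pow_pos Nat.card_pos _)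
    calc R₀ * (R₀ ^ 3 * c ^ 2) = (R₀ ^ 2 * c) ^ 2 := by ring
      _ ≤ (Nat.card V * r ^ 2) ^ 2 := Nat.pow_le_pow_left h1 _
      _ = r * (Nat.card V ^ 2 * r ^ 3) := by ring
      _ < R₀ * (Nat.card V ^ 2 * r ^ 3) := Nat.mul_lt_mul_of_pos_right hrR hpos
  have hdual : Dual (S : Subgroup G) V := fun R _ hel hne => by
    obtain ⟨-, h2⟩ := hb R hel
    have hrR : Nat.card ↥(R ⊓ centralizer (V : Set G)) < Nat.card R := by
      refine lt_of_le_of_ne (card_le_of_le inf_le_left) fun e => hne ?_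
      exact inf_eq_left.1 (eq_of_le_of_card_ge inf_le_left e.ge)
    by_contra hcon
    push Not at hcon
    have h3 : Nat.card R * Nat.card R ≤ Nat.card R * Nat.card ↥(R ⊓ centralizer (V : Set G)) := by
      rw [← pow_two]
      calc Nat.card R ^ 2 ≤ _ := h2
        _ = Nat.card ↥⁅V, R⁆ * Nat.card ↥(R ⊓ centralizer (V : Set G)) *
            Nat.card ↥(R ⊓ centralizer (V : Set G)) := by ring
        _ ≤ _ := Nat.mul_le_mul_right _ hcon
    exact absurd (Nat.le_of_mul_le_mul_left h3 Nat.card_pos) (not_le.2 hrR)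
  have hHC : Hof (S : Subgroup G) ≤ C := hCV ▸ hof_le_centralizer hfs hdual
  have hJC : Cfsg.thompsonSubgroupOf 2 (S : Subgroup G) ≤ C := (jof_le_hof _).trans hHC
  refine ⟨fun g => ?_, fun g => ?_⟩
  · obtain ⟨k, hk, n, hn, rfl⟩ := exists_mul_normalizer S C g
    refine ⟨k, hCZ hk, n, ?_, rfl⟩
    rw [← jof_eq_of_le (T' := (S : Subgroup G) ⊓ C) inf_le_left (le_inf (jof_le _) hJC)]
    exact Cfsg.Lib.Thompson.normalizer_le_normalizer_thompsonSubgroupOf _ hn
  · obtain ⟨k, hk, n, hn, rfl⟩ := exists_mul_normalizer S C g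
    refine ⟨k, hCZ hk, n, ?_, rfl⟩
    rw [← hof_eq_of_le (T' := (S : Subgroup G) ⊓ C) inf_le_left (le_inf (hof_le _) hHC)]
    exact normalizer_le_normalizer_hof _ hn

end Cfsg.Lib.Local.Triple
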