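import Cfsg.Agent.Lib.Local.Triple.Module
import Cfsg.Agent.Lib.Local.Triple.Steps
import Cfsg.Agent.Lib.Local.Baumann.Large
import Cfsg.Agent.Lib.FusionSys.NormalizerModel

/-!
The factorization `G = C(Ω₁Z(Ĵ(S))) N(J(S))`.
-/

set_option autoImplicit false

universe u v

open scoped commutatorElement

namespace Cfsg.Lib.Local.Triple

open Subgroup Cfsg.Lib.Core

section General

variable {G : Type u} [Group G]

theorem map_zof {H : Type u} [Group H] {f : G →* H} (hf : Function.Injective f) (T : Subgroup G) :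
    (Zof T).map f = Zof (T.map f) := by
  unfold Zof
  rw [Cfsg.Lib.Local.Baumann.map_omegaOne f hf, inf_centralizer_map hf]

theorem zof_le (T : Subgroup G) : Zof T ≤ T ⊓ centralizer (T : Set G) :=
  (closure_le _).2 fun _ hx => hx.1

/-- The third factorization. -/
def Third (S : Subgroup G) : Prop :=
  ∀ g : G, ∃ c ∈ centralizer (Zof (Hof S) : Set G),
    ∃ n ∈ normalizer ((Cfsg.thompsonSubgroupOf 2 S : Subgroup G) : Set G), g = c * n

theorem Third.transfer {M : Subgroup G} {P : Subgroup ↥M} {S : Subgroup G} (h : Third P)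
    (hH : Hof (P.map M.subtype) = Hof S)
    (hJ : Cfsg.thompsonSubgroupOf 2 (P.map M.subtype) = Cfsg.thompsonSubgroupOf 2 S) {k : G} (hk : k ∈ M) :
    ∃ c ∈ centralizer (Zof (Hof S) : Set G),
      ∃ n ∈ normalizer ((Cfsg.thompsonSubgroupOf 2 S : Subgroup G) : Set G), n ∈ M ∧ k = c * n := by
  obtain ⟨c, hc, n, hn, he⟩ := h ⟨k, hk⟩
  refine ⟨c, ?_, n, ?_, n.2, congrArg Subtype.val he⟩
  · rw [← hH, ← map_hof M.subtype_injective, ← map_zof M.subtype_injective]
    exact (mem_centralizer_map_iff M.subtype_injective _ c).2 hc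
  · rw [← hJ, ← map_jof M.subtype_injective]
    exact le_normalizer_map M.subtype ⟨n, hn, rfl⟩

end General

section Inherit

variable {G : Type u} [Group G] [Finite G]

theorem free_subgroup (hyp : Hyp G) (M : Subgroup G) : ¬ Cfsg.Involves (Equiv.Perm (Fin 4)) ↥M :=
  fun h => hyp.free (Cfsg.Lib.FusionSys.involves_of_injective M.subtype_injective h)

theorem cons_of_pCore_le (hyp : Hyp G) {M : Subgroup G} (hM : Cfsg.pCore 2 G ≤ M) :
    centralizer (Cfsg.pCore 2 ↥M : Set ↥M) ≤ Cfsg.pCore 2 ↥M := by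
  haveI : Fact (Nat.Prime 2) := ⟨Nat.prime_two⟩
  have h1 : (Cfsg.pCore 2 G).subgroupOf M ≤ Cfsg.pCore 2 ↥M :=
    le_pCore' inferInstance (pCore_isPGroup 2 G).comap_subtype
  intro x hx
  refine h1 (mem_subgroupOf.2 (hyp.cons (mem_centralizer_iff.2 fun q hq => ?_)))
  exact congrArg Subtype.val (mem_centralizer_iff.1 hx (⟨q, hM hq⟩ : ↥M) (h1 (mem_subgroupOf.2 hq)))

theorem cons_of_normal (hyp : Hyp G) (M : Subgroup G) [M.Normal] :
    centralizer (Cfsg.pCore 2 ↥M : Set ↥M) ≤ Cfsg.pCore 2 ↥M := by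
  haveI : Fact (Nat.Prime 2) := ⟨Nat.prime_two⟩
  set Q := Cfsg.pCore 2 G
  set Q' := Q ⊓ M
  set K := M ⊓ centralizer (Q' : Set G) with hK
  have hQp : IsPGroup 2 ↥Q := pCore_isPGroup 2 G
  have hKp : IsPGroup 2 ↥K := Cfsg.Lib.Local.isPGroup_of_forall_coprime fun x hx hcop => by
    have hodd := Nat.coprime_two_right.1 hcop
    have h1 : ⁅Q, zpowers x⁆ ≤ Q' := by
      refine le_inf (commutator_le_left _ _) ?_
      exact (commutator_mono le_rfl ((zpowers_le).2 hx.1)).trans (commutator_le_right Q M)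
    have h2 : ⁅Q', zpowers x⁆ = ⊥ :=
      commutator_eq_bot_iff_le_centralizer.2 (Subgroup.le_centralizer_iff.1 ((zpowers_le).2 hx.2))
    have h3 := Cfsg.Lib.Coprime.commutator_eq_bot_of_stabilizes (A := zpowers x) (G := Q)
      le_normalizer_of_normal (coprime_zpowers hQp hodd) (solv_zpowers x Q) h1 h2
    rw [commutator_comm] at h3
    have hxQ : x ∈ Q := hyp.cons (commutator_eq_bot_iff_le_centralizer.1 h3 (mem_zpowers x))
    obtain ⟨k, hk⟩ := hQp ⟨x, hxQ⟩
    exact orderOf_eq_one_iff.1 (Nat.eq_one_of_dvd_coprimes (hcop.symm.pow_left k)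
      (orderOf_dvd_of_pow_eq_one (congrArg Subtype.val hk :)) dvd_rfl)
  have hKc : K.subgroupOf M ≤ Cfsg.pCore 2 ↥M := le_pCore' inferInstance hKp.comap_subtype
  have hQc : Q'.subgroupOf M ≤ Cfsg.pCore 2 ↥M :=
    le_pCore' inferInstance ((hQp.to_le inf_le_left).comap_subtype)
  intro x hx
  refine hKc (mem_subgroupOf.2 ⟨x.2, mem_centralizer_iff.2 fun q hq => ?_⟩)
  exact congrArg Subtype.val (mem_centralizer_iff.1 hx (⟨q, hq.2⟩ : ↥M) (hQc (mem_subgroupOf.2 hq)))

theorem hyp_normal (hyp : Hyp G) (M : Subgroup G) [hM : M.Normal] : Hyp ↥M :=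
  ⟨cons_of_normal hyp M, free_subgroup hyp M, hyp.fac.subnormal hM.isSubnormal⟩

theorem hyp_sup (hyp : Hyp G) (S : Sylow 2 G) (N : Subgroup G) [N.Normal] :
    Hyp ↥(N ⊔ (S : Subgroup G)) := by
  haveI : Fact (Nat.Prime 2) := ⟨Nat.prime_two⟩
  set M := N ⊔ (S : Subgroup G)
  refine ⟨cons_of_pCore_le hyp ((pCore_le_sylow S).trans le_sup_right), free_subgroup hyp M, ?_⟩
  refine fac_ext (N.subgroupOf M) ((hyp.fac.subnormal (inferInstance : N.Normal).isSubnormal).of_equiv
    (subgroupOfEquivOfLe le_sup_left).symm) (fac_of_isPGroup (p := 2) ?_)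
  refine S.2.of_surjective ((QuotientGroup.mk' (N.subgroupOf M)).comp
    (Subgroup.inclusion le_sup_right)) fun x => ?_
  obtain ⟨⟨g, hg⟩, rfl⟩ := QuotientGroup.mk'_surjective (N.subgroupOf M) x
  obtain ⟨n, hn, s, hs, rfl⟩ := mem_sup_of_normal_left.1 hg
  refine ⟨⟨s, hs⟩, ?_⟩
  refine (QuotientGroup.eq).2 (mem_subgroupOf.2 ?_)
  show s⁻¹ * (n * s) ∈ N
  have := (inferInstance : N.Normal).conj_mem n hn s⁻¹
  rwa [inv_inv, mul_assoc] at this

theorem hyp_normalizer (hyp : Hyp G) (S : Sylow 2 G) (N : Subgroup G) [N.Normal] :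
    Hyp ↥(normalizer ((((S : Subgroup G) ⊓ N) : Subgroup G) : Set G)) := by
  haveI : Fact (Nat.Prime 2) := ⟨Nat.prime_two⟩
  set T := (S : Subgroup G) ⊓ N with hT
  set L := normalizer (T : Set G) with hL
  have hSL : (S : Subgroup G) ≤ L := by
    rw [hL, Cfsg.Lib.Core.le_normalizer_iff_conj_mem]
    rintro s hs t ⟨ht1, ht2⟩
    exact ⟨mul_mem (mul_mem hs ht1) (Subgroup.inv_mem _ hs), (inferInstance : N.Normal).conj_mem t ht2 s⟩
  refine ⟨cons_of_pCore_le hyp ((pCore_le_sylow S).trans hSL), free_subgroup hyp L, ?_⟩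
  set f : ↥L →* G ⧸ N := (QuotientGroup.mk' N).comp L.subtype with hf
  have hfs : Function.Surjective f := fun x => by
    obtain ⟨g, rfl⟩ := QuotientGroup.mk'_surjective N x
    obtain ⟨k, hk, n, hn, rfl⟩ := exists_mul_normalizer S N g
    refine ⟨⟨n, hn⟩, ?_⟩
    simp only [hf, MonoidHom.comp_apply, coe_subtype, map_mul]
    rw [show QuotientGroup.mk' N k = 1 from (QuotientGroup.eq_one_iff k).2 hk, one_mul]
  refine fac_ext f.ker ?_ ((hyp.fac.of_surjective _ (QuotientGroup.mk'_surjective N)).of_equiv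
    (QuotientGroup.quotientKerEquivOfSurjective f hfs).symm)
  set T₀ : Subgroup ↥f.ker := (T.subgroupOf L).subgroupOf f.ker with hT₀
  haveI : (T.subgroupOf L).Normal := normal_in_normalizer
  haveI : T₀.Normal := inferInstance
  refine fac_ext T₀ (fac_of_isPGroup (p := 2) ((S.2.to_le inf_le_left).comap_subtype.comap_subtype))
    (fac_of_odd ?_)
  rw [← Subgroup.index_eq_card, hT₀, ← relIndex,
    show f.ker = N.subgroupOf L by rw [hf, ← MonoidHom.comap_ker, QuotientGroup.ker_mk']; rfl]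
  have h1 : (T.subgroupOf L).relIndex (N.subgroupOf L) = T.relIndex (N ⊓ L) := by
    rw [← relIndex_map_map_of_injective (T.subgroupOf L) (N.subgroupOf L) L.subtype_injective,
      map_subgroupOf_eq_of_le (le_normalizer : T ≤ L), subgroupOf_map_subtype]
  have h2 : T.relIndex (N ⊓ L) ∣ T.relIndex N := by
    rw [← relIndex_mul_relIndex T (N ⊓ L) N (le_inf inf_le_right le_normalizer) inf_le_left]
    exact dvd_mul_right _ _
  have h3 : Odd (T.relIndex N) := by
    rw [hT, inf_relIndex_right]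
    exact Nat.odd_iff.2 (Nat.two_dvd_ne_zero.1 (Cfsg.Lib.Local.not_dvd_relIndex_of_normal S N))
  rw [h1]
  exact h3.of_dvd_nat h2

end Inherit

theorem third_aux : ∀ n : ℕ, ∀ (G : Type u) [Group G] [Finite G], Nat.card G = n → Hyp G →
    ∀ S : Sylow 2 G, Third (S : Subgroup G) := by
  intro n
  induction n using Nat.strong_induction_on with
  | _ n ih =>
  intro G _ _ hn hyp S
  subst hn
  haveI : Fact (Nat.Prime 2) := ⟨Nat.prime_two⟩
  have IH : ∀ (M : Subgroup G), M ≠ ⊤ → Hyp ↥M → ∀ (hS : (S : Subgroup G) ≤ M) {k : G}, k ∈ M →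
      ∃ c ∈ centralizer (Zof (Hof (S : Subgroup G)) : Set G),
        ∃ n ∈ normalizer ((Cfsg.thompsonSubgroupOf 2 (S : Subgroup G) : Subgroup G) : Set G),
          n ∈ M ∧ k = c * n := by
    intro M hM hypM hS k hk
    have hm : (S.subtype hS : Subgroup ↥M).map M.subtype = (S : Subgroup G) := by
      rw [Sylow.coe_subtype, map_subgroupOf_eq_of_le hS]
    exact (ih _ (lt_card_of_ne_top hM) ↥M rfl hypM (S.subtype hS)).transfer (by rw [hm]) (by rw [hm]) hk
  intro g
  by_cases hE : Cfsg.IsEGroup ↥(S : Subgroup G)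
  · obtain ⟨c, hc, m, hm, he⟩ := (factor_zenter hyp S).1 g
    refine ⟨c, ?_, m, hm, he⟩
    rw [hof_eq_self hE]
    exact centralizer_le (zof_le (S : Subgroup G)) hc
  obtain ⟨V, hfs, hd, hne⟩ := exists_strict hE
  by_cases hkey : ∀ N : Subgroup G, N.Normal → N ⊔ (S : Subgroup G) ≠ ⊤ →
      (S : Subgroup G) ⊓ N ≤ Cfsg.pCore 2 G
  swap
  · push Not at hkey
    obtain ⟨N, hNn, hNS, hNQ⟩ := hkey
    haveI := hNn
    set L := normalizer ((((S : Subgroup G) ⊓ N) : Subgroup G) : Set G) with hL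
    have hSL : (S : Subgroup G) ≤ L := by
      rw [hL, Cfsg.Lib.Core.le_normalizer_iff_conj_mem]
      rintro s hs t ⟨ht1, ht2⟩
      exact ⟨mul_mem (mul_mem hs ht1) (Subgroup.inv_mem _ hs), hNn.conj_mem t ht2 s⟩
    have hLne : L ≠ ⊤ := fun h => hNQ (le_pCore' (normalizer_eq_top_iff.1 h) (S.2.to_le inf_le_left))
    obtain ⟨k, hk, l, hl, hkl⟩ := exists_mul_normalizer S N g⁻¹
    have hg : g = l⁻¹ * k⁻¹ := by rw [← mul_inv_rev, ← hkl, inv_inv]
    obtain ⟨c, hc, m, hm, hmL, hlm⟩ := IH L hLne (hyp_normalizer hyp S N) hSL (inv_mem hl)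
    obtain ⟨c', hc', m', hm', -, hkm⟩ := IH _ hNS (hyp_sup hyp S N) le_sup_right
      ((le_sup_left : N ≤ N ⊔ (S : Subgroup G)) (hNn.conj_mem _ (inv_mem hk) m))
    refine ⟨c * c', mul_mem hc hc', m' * m, mul_mem hm' hm, ?_⟩
    calc g = c * (m * k⁻¹ * m⁻¹) * m := by rw [hg, hlm]; group
      _ = c * c' * (m' * m) := by rw [hkm]; group
  have hVQ := le_pCore_of_fs hyp S hfs
  have hmc : Cfsg.thompsonSubgroupOf 2 (S : Subgroup G) ≤
      centralizer (normalClosure (V : Set G) : Set G) := by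
    rw [jof_eq_sSup]
    exact sSup_le fun A hA => module_centralizes hyp S hkey hfs hVQ hA
  haveI hCn : (centralizer (normalClosure (V : Set G) : Set G)).Normal := Subgroup.normal_centralizer
  by_cases hCS : centralizer (normalClosure (V : Set G) : Set G) ⊔ (S : Subgroup G) = ⊤
  swap
  · have hJQ : Cfsg.thompsonSubgroupOf 2 (S : Subgroup G) ≤ Cfsg.pCore 2 G :=
      (le_inf (jof_le _) hmc).trans (hkey _ hCn hCS)
    refine ⟨1, one_mem _, g, ?_, (one_mul g).symm⟩
    rw [← jof_eq_of_le (pCore_le_sylow S) hJQ]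
    exact Cfsg.Lib.Thompson.normalizer_le_normalizer_thompsonSubgroupOf _
      (le_normalizer_of_normal (mem_top g))
  haveI : V.Normal := ⟨fun v hv x => by
    have hx : x ∈ centralizer (normalClosure (V : Set G) : Set G) ⊔ (S : Subgroup G) := hCS ▸ mem_top x
    rw [mem_sup_of_normal_left] at hx
    obtain ⟨c, hc, s, hs, rfl⟩ := hx
    have h1 := (mem_normalizer_iff.1 (hfs.norm hs) v).1 hv
    rw [show c * s * v * (c * s)⁻¹ = c * (s * v * s⁻¹) * c⁻¹ by group,
      ← mem_centralizer_iff.1 hc _ (subset_normalClosure h1), mul_inv_cancel_right]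
    exact h1⟩
  set C := centralizer (V : Set G) with hC
  have hCne : C ≠ ⊤ := fun h => hne (le_top.trans h.ge)
  have hHC : Hof (S : Subgroup G) ≤ C := hof_le_centralizer hfs hd
  obtain ⟨P, hP⟩ := Cfsg.Lib.Local.exists_sylow_inf S C
  have hm : (P : Subgroup ↥C).map C.subtype = (S : Subgroup G) ⊓ C := by
    rw [hP, subgroupOf_map_subtype]
  have hH : Hof ((P : Subgroup ↥C).map C.subtype) = Hof (S : Subgroup G) := by
    rw [hm]; exact hof_eq_of_le inf_le_left (le_inf (hof_le _) hHC)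
  have hJ : Cfsg.thompsonSubgroupOf 2 ((P : Subgroup ↥C).map C.subtype) =
      Cfsg.thompsonSubgroupOf 2 (S : Subgroup G) := by
    rw [hm]; exact jof_eq_of_le inf_le_left (le_inf (jof_le _) ((jof_le_hof _).trans hHC))
  have hg : g ∈ C ⊔ (S : Subgroup G) := by
    have h : C ⊔ (S : Subgroup G) = ⊤ := by
      refine top_le_iff.1 (hCS.ge.trans (sup_le_sup_right (centralizer_le subset_normalClosure) _))
    exact h ▸ mem_top g
  rw [mem_sup_of_normal_left] at hg
  obtain ⟨k, hk, s, hs, rfl⟩ := hg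
  obtain ⟨c, hc, m, hm', -, rfl⟩ := (ih _ (lt_card_of_ne_top hCne) ↥C rfl (hyp_normal hyp C) P).transfer hH hJ hk
  refine ⟨c, hc, m * s, mul_mem hm' ?_, mul_assoc _ _ _⟩
  exact Cfsg.Lib.Thompson.normalizer_le_normalizer_thompsonSubgroupOf _ (le_normalizer hs)

theorem third {G : Type u} [Group G] [Finite G] (hyp : Hyp G) (S : Sylow 2 G) :
    Third (S : Subgroup G) :=
  third_aux _ G rfl hyp S

end Cfsg.Lib.Local.Triple
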