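import Cfsg.Agent.Lib.Local.Triple.Act
import Cfsg.Agent.Lib.Local.Triple.Hat
import Cfsg.Agent.Lib.Coprime.Action

/-!
A maximal elementary abelian subgroup centralizes the normal closure of a strict subgroup when
every proper normal subgroup modulo the Sylow subgroup meets it inside `O₂`.
-/

set_option autoImplicit false

universe u

open scoped commutatorElement

namespace Cfsg.Lib.Local.Triple

open Subgroup Cfsg.Lib.Core

variable {G : Type u} [Group G] [Finite G]

theorem symm_strict {v c k : ℕ} (hc : c ≤ v) (hk : k ≤ v) (h1 : v * c ^ 2 < k ^ 3)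
    (h2 : v * k ^ 2 < c ^ 3) : False := by
  have h3 : v * c ^ 2 * (v * k ^ 2) < k ^ 3 * c ^ 3 := Nat.mul_lt_mul'' h1 h2
  have h4 : k ^ 3 * c ^ 3 ≤ v * c ^ 2 * (v * k ^ 2) := by
    calc k ^ 3 * c ^ 3 = (k * c) * (c ^ 2 * k ^ 2) := by ring
      _ ≤ (v * v) * (c ^ 2 * k ^ 2) := Nat.mul_le_mul_right _ (Nat.mul_le_mul hk hc)
      _ = _ := by ring
  omega

/-- A strict subgroup in a normal `2`-subgroup commutes with its conjugates. -/
theorem conj_le_centralizer {T V Q : Subgroup G} [Q.Normal] (hQT : Q ≤ T) (h : FS T V) (hVQ : V ≤ Q)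
    (g : G) : V.map (MulAut.conj g).toMonoidHom ≤ centralizer (V : Set G) := by
  by_contra hne
  set W := V.map (MulAut.conj g).toMonoidHom with hW
  have hWQ : W ≤ Q := by
    rintro _ ⟨q, hq, rfl⟩
    exact (inferInstance : Q.Normal).conj_mem q (hVQ hq) g
  have hQg : Q ≤ T.map (MulAut.conj g).toMonoidHom := fun q hq =>
    ⟨g⁻¹ * q * g⁻¹⁻¹, hQT ((inferInstance : Q.Normal).conj_mem q hq g⁻¹), by simp [mul_assoc]⟩
  have hcard : Nat.card W = Nat.card V := card_map_of_injective (MulAut.conj g).injective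
  have hWe := (h.conj g).elem
  have h1 := h.strict W (hWQ.trans hQT) (ElAct.of_elementary hWe) hne
  have h2 := (h.conj g).strict V (hVQ.trans hQg) (ElAct.of_elementary h.elem)
    fun hc => hne (Subgroup.le_centralizer_iff.1 hc)
  rw [← hW, hcard] at h2
  rw [hcard] at h1
  have hpos : 0 < Nat.card V ^ 2 := pow_pos Nat.card_pos _
  refine symm_strict (v := Nat.card V) (card_le_of_le inf_le_left) ?_
    (Nat.lt_of_mul_lt_mul_left (a := Nat.card V ^ 2) ?_) (Nat.lt_of_mul_lt_mul_left (a := Nat.card V ^ 2) ?_)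
    (c := Nat.card ↥(V ⊓ centralizer (W : Set G))) (k := Nat.card ↥(W ⊓ centralizer (V : Set G)))
  · exact hcard ▸ card_le_of_le inf_le_left
  · calc _ = Nat.card V ^ 3 * Nat.card ↥(V ⊓ centralizer (W : Set G)) ^ 2 := by ring
      _ < _ := h1
  · calc _ = Nat.card V ^ 3 * Nat.card ↥(W ⊓ centralizer (V : Set G)) ^ 2 := by ring
      _ < _ := h2

theorem sSup_conj_eq (V : Subgroup G) :
    sSup (Set.range fun g : G => V.map (MulAut.conj g).toMonoidHom) = normalClosure (V : Set G) := by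
  refine le_antisymm (sSup_le ?_) ?_
  · rintro _ ⟨g, rfl⟩ _ ⟨v, hv, rfl⟩
    exact normalClosure_normal.conj_mem v (subset_normalClosure hv) g
  · rw [normalClosure, closure_le]
    intro x hx
    obtain ⟨v, hv, hvx⟩ := Group.mem_conjugatesOfSet_iff.1 hx
    obtain ⟨c, rfl⟩ := isConj_iff.1 hvx
    exact (le_sSup (show V.map (MulAut.conj c).toMonoidHom ∈
      Set.range fun g : G => V.map (MulAut.conj g).toMonoidHom from ⟨c, rfl⟩)) ⟨v, hv, rfl⟩

theorem isEA_normalClosure {T V Q : Subgroup G} [Q.Normal] (hQT : Q ≤ T) (h : FS T V) (hVQ : V ≤ Q) :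
    Cfsg.IsElementaryAbelian 2 (normalClosure (V : Set G)) := by
  unfold normalClosure
  apply Cfsg.Lib.Thompson.isEA_closure
  · intro a ha b hb
    obtain ⟨v, hv, hva⟩ := Group.mem_conjugatesOfSet_iff.1 ha
    obtain ⟨c, rfl⟩ := isConj_iff.1 hva
    obtain ⟨w, hw, hwb⟩ := Group.mem_conjugatesOfSet_iff.1 hb
    obtain ⟨d, rfl⟩ := isConj_iff.1 hwb
    have hm : (c⁻¹ * d) * w * (c⁻¹ * d)⁻¹ ∈ V.map (MulAut.conj (c⁻¹ * d)).toMonoidHom := ⟨w, hw, rfl⟩
    have h1 : Commute v ((c⁻¹ * d) * w * (c⁻¹ * d)⁻¹) :=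
      mem_centralizer_iff.1 (conj_le_centralizer hQT h hVQ _ hm) v hv
    have h2 := h1.map (MulAut.conj c).toMonoidHom
    simp only [MulEquiv.coe_toMonoidHom, MulAut.conj_apply] at h2
    rwa [show c * (c⁻¹ * d * w * (c⁻¹ * d)⁻¹) * c⁻¹ = d * w * d⁻¹ by group] at h2
  · intro a ha
    obtain ⟨v, hv, hva⟩ := Group.mem_conjugatesOfSet_iff.1 ha
    obtain ⟨c, rfl⟩ := isConj_iff.1 hva
    rw [conj_pow, h.elem.2 v hv, mul_one, mul_inv_cancel]

/-- The strict inequality for a subgroup of `Q` on the normal closure. -/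
theorem strict_normalClosure {T V Q : Subgroup G} [Q.Normal] (hQT : Q ≤ T) (h : FS T V)
    {R : Subgroup G} (hRQ : R ≤ Q) (hel : ElAct R (normalClosure (V : Set G)))
    (hne : ¬ R ≤ centralizer (normalClosure (V : Set G) : Set G)) :
    Nat.card R ^ 3 * Nat.card ↥(normalClosure (V : Set G) ⊓ centralizer (R : Set G)) ^ 2 <
      Nat.card ↥(normalClosure (V : Set G)) ^ 2 *
        Nat.card ↥(R ⊓ centralizer (normalClosure (V : Set G) : Set G)) ^ 3 := by
  refine strict_of_generated _ (sSup_conj_eq V) R ?_ hel hne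
  rintro _ ⟨g, rfl⟩ R' hR' hel' hne'
  refine (h.conj g).strict R' (fun r hr => ?_) hel' hne'
  exact ⟨g⁻¹ * r * g⁻¹⁻¹, hQT ((inferInstance : Q.Normal).conj_mem r (hRQ (hR' hr)) g⁻¹), by simp [mul_assoc]⟩

/-- Counting with a pairing into a subgroup of order two. -/
theorem card_pairing {X E R L' I : Subgroup G} [L'.Normal] (hX : Cfsg.IsElementaryAbelian 2 X)
    (hEX : E ≤ X) (hI : ⁅E, R⁆ ≤ I) (hIX : I ≤ X) (hI2 : Nat.card ↥(I.map (QuotientGroup.mk' L')) ≤ 2)
    (hinj : E ⊓ act L' R = ⊥) :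
    Nat.card E * Nat.card ↥(R ⊓ centralizer (X : Set G)) ≤ Nat.card R := by
  set R₀ := R ⊓ centralizer (X : Set G) with hR₀
  have h0 : E ⊓ act L' R₀ = E := by
    refine inf_eq_left.2 (le_act_iff.2 ?_)
    rw [commutator_eq_bot_iff_le_centralizer.2
      ((inf_le_right : R₀ ≤ _).trans (centralizer_le hEX))]
    exact bot_le
  obtain ⟨R', ⟨h0R, hR'R, hinv⟩, hmax⟩ := wellFounded_gt.has_min
    {R' : Subgroup G | R₀ ≤ R' ∧ R' ≤ R ∧
      Nat.card E * Nat.card R₀ ≤ Nat.card R' * Nat.card ↥(E ⊓ act L' R')}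
    ⟨R₀, le_rfl, inf_le_left, by rw [h0, mul_comm]⟩
  rcases hR'R.lt_or_eq with hlt | he
  swap
  · rw [he, hinj, Subgroup.card_bot, mul_one] at hinv
    exact hinv
  exfalso
  obtain ⟨r, hrR, hrR'⟩ := SetLike.exists_of_lt hlt
  set R'' := R' ⊔ zpowers r with hR''
  have hlt' : R' < R'' := lt_of_le_of_ne le_sup_left fun e =>
    hrR' (e ▸ (le_sup_right : zpowers r ≤ R'') (mem_zpowers r))
  have hR''R : R'' ≤ R := sup_le hR'R ((zpowers_le).2 hrR)
  refine hmax R'' ⟨h0R.trans le_sup_left, hR''R, hinv.trans ?_⟩ hlt'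
  have hdouble : 2 * Nat.card R' ≤ Nat.card R'' := by
    have h1 := card_mul_relIndex hlt'.le
    have h2 : R'.relIndex R'' ≠ 1 := fun e => hlt'.not_ge (relIndex_eq_one.1 e)
    have h3 : R'.relIndex R'' ≠ 0 := index_ne_zero_of_finite
    rw [← h1, mul_comm]
    exact Nat.mul_le_mul_left _ (by omega)
  set F := E ⊓ act L' R' with hF
  have hIab : ∀ a ∈ X, ∀ b ∈ X, a * b = b * a := fun a ha b hb =>
    (Cfsg.Lib.Thompson.isEA_commute hX ha hb).eq
  have hc : ∀ e ∈ E, ⁅e, r⁆ ∈ I := fun e he => hI (commutator_mem_commutator he hrR)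
  let ψ : ↥F →* G ⧸ L' := MonoidHom.mk' (fun e => QuotientGroup.mk' L' ⁅(e : G), r⁆) fun a b => by
    rw [← map_mul, Subgroup.coe_mul, comm_mul_left]
    congr 1
    rw [hIab (a : G) (hEX a.2.1) _ (hIX (hc _ b.2.1)), mul_inv_cancel_right,
      hIab _ (hIX (hc _ b.2.1)) _ (hIX (hc _ a.2.1))]
  have hker : ψ.ker.map F.subtype ≤ E ⊓ act L' R'' := by
    rintro _ ⟨e, he, rfl⟩
    refine ⟨e.2.1, ?_⟩
    show (e : G) ∈ act L' R''
    rw [← zpowers_le, le_act_comm]
    refine sup_le (le_act_comm.1 ((zpowers_le).2 e.2.2)) ((zpowers_le).2 (mem_act.2 fun w hw => ?_))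
    obtain ⟨n, rfl⟩ := mem_zpowers_iff.1 hw
    rw [← QuotientGroup.eq_one_iff (N := L'), ← QuotientGroup.mk'_apply, map_commutatorElement,
      commutatorElement_eq_one_iff_mul_comm, map_zpow]
    refine Commute.zpow_left ?_ n
    rw [commute_iff_eq, ← commutatorElement_eq_one_iff_mul_comm, ← map_commutatorElement]
    exact MonoidHom.mem_ker.1 he
  have hrange : ψ.range ≤ I.map (QuotientGroup.mk' L') := by
    rintro _ ⟨e, rfl⟩
    exact ⟨_, hc _ e.2.1, rfl⟩
  have hF2 : Nat.card F ≤ 2 * Nat.card ↥(E ⊓ act L' R'') := by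
    rw [← ψ.ker.card_mul_index, Subgroup.index_ker, mul_comm]
    refine Nat.mul_le_mul ((card_le_of_le hrange).trans hI2) ?_
    rw [← card_map_of_injective F.subtype_injective]
    exact card_le_of_le hker
  calc Nat.card R' * Nat.card F ≤ Nat.card R' * (2 * Nat.card ↥(E ⊓ act L' R'')) :=
        Nat.mul_le_mul_left _ hF2
    _ = 2 * Nat.card R' * Nat.card ↥(E ⊓ act L' R'') := by ring
    _ ≤ _ := Nat.mul_le_mul_right _ hdouble

theorem module_centralizes (hyp : Hyp G) (S : Sylow 2 G)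
    (hkey : ∀ N : Subgroup G, N.Normal → N ⊔ (S : Subgroup G) ≠ ⊤ →
      (S : Subgroup G) ⊓ N ≤ Cfsg.pCore 2 G)
    {V : Subgroup G} (h : FS (S : Subgroup G) V) (hVQ : V ≤ Cfsg.pCore 2 G)
    {A : Subgroup G} (hA : MaxEl (S : Subgroup G) A) :
    A ≤ centralizer (normalClosure (V : Set G) : Set G) := by
  classical
  haveI : Fact (Nat.Prime 2) := ⟨Nat.prime_two⟩
  set Q := Cfsg.pCore 2 G with hQdef
  set O := Cfsg.pResidual 2 G with hOdef
  haveI hOn : O.Normal := Cfsg.Lib.Fusion.pResidual_normal 2 G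
  have hQp : IsPGroup 2 ↥Q := pCore_isPGroup 2 G
  have hQS : Q ≤ (S : Subgroup G) := pCore_le_sylow S
  obtain ⟨hAS, hAe, hAmax⟩ := hA
  have hAV : A ≤ centralizer (V : Set G) := h.centralizes_max hAS hAe hAmax
  set X := normalClosure (V : Set G) with hXdef
  haveI hXn : X.Normal := normalClosure_normal
  have hXe : Cfsg.IsElementaryAbelian 2 X := isEA_normalClosure hQS h hVQ
  haveI : IsMulCommutative ↥X := hXe.1
  have hXQ : X ≤ Q := normalClosure_le_normal hVQ
  have hXp : IsPGroup 2 ↥X := hQp.to_le hXQ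
  have hVX : V ≤ X := subset_normalClosure
  have hstr : ∀ R ≤ Q, ElAct R X → ¬ R ≤ centralizer (X : Set G) →
      Nat.card R ^ 3 * Nat.card ↥(X ⊓ centralizer (R : Set G)) ^ 2 <
        Nat.card X ^ 2 * Nat.card ↥(R ⊓ centralizer (X : Set G)) ^ 3 :=
    fun R hR => strict_normalClosure hQS h hR
  by_contra hne
  set C := centralizer (X : Set G) with hCdef
  haveI hCn : C.Normal := Subgroup.normal_centralizer
  -- `C` is not a supplement
  have hCS : C ⊔ (S : Subgroup G) ≠ ⊤ := by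
    intro htop
    haveI : V.Normal := ⟨fun v hv g => by
      have hg : g ∈ C ⊔ (S : Subgroup G) := htop ▸ mem_top g
      rw [mem_sup_of_normal_left] at hg
      obtain ⟨c, hc, s, hs, rfl⟩ := hg
      have h1 := (mem_normalizer_iff.1 (h.norm hs) v).1 hv
      rw [show c * s * v * (c * s)⁻¹ = c * (s * v * s⁻¹) * c⁻¹ by group,
        ← mem_centralizer_iff.1 hc _ (hVX h1), mul_inv_cancel_right]
      exact h1⟩
    exact hne (hAV.trans (centralizer_le (normalClosure_le_normal (N := V) subset_rfl)))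
  have hSC : (S : Subgroup G) ⊓ C ≤ Q := hkey C hCn hCS
  set A₀ := A ⊓ Q with hA₀
  set a := Nat.card A with hadef
  set e := Nat.card A₀ with hedef
  set k := Nat.card ↥(A ⊓ C) with hkdef
  set x := Nat.card X with hxdef
  set cA := Nat.card ↥(X ⊓ centralizer (A : Set G)) with hcAdef
  set c₀ := Nat.card ↥(X ⊓ centralizer (A₀ : Set G)) with hc₀def
  have hoff : k * x ≤ a * cA := offender hXe (hXQ.trans hQS) hAS hAe hAmax
  have hkA₀ : A ⊓ C ≤ A₀ := le_inf inf_le_left ((inf_le_inf_right _ hAS).trans hSC)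
  have hA₀C : A₀ ⊓ C = A ⊓ C := le_antisymm (inf_le_inf_right _ inf_le_left) (le_inf hkA₀ inf_le_right)
  have hke : k ≤ e := card_le_of_le hkA₀
  have hAnQ : ¬ A ≤ Q := fun hAQ => by
    have h1 := hstr A hAQ (ElAct.of_elementary hAe) hne
    have hka : k ≤ a := card_le_of_le inf_le_left
    have h3 : x ^ 2 * k ^ 3 ≤ a ^ 3 * cA ^ 2 :=
      calc x ^ 2 * k ^ 3 = k * (k * x) ^ 2 := by ring
        _ ≤ a * (a * cA) ^ 2 := Nat.mul_le_mul hka (Nat.pow_le_pow_left hoff _)
        _ = _ := by ring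
    exact absurd h1 (not_lt.2 h3)
  have hea : e < a := lt_of_le_of_ne (card_le_of_le inf_le_left) fun he =>
    hAnQ (inf_eq_left.1 (eq_of_le_of_card_ge inf_le_left he.ge))
  have hc₀ : e ^ 3 * c₀ ^ 2 ≤ x ^ 2 * k ^ 3 := by
    by_cases hA₀c : A₀ ≤ C
    · have h1 : k = e := by rw [hkdef, ← hA₀C, inf_eq_left.2 hA₀c]
      rw [h1, mul_comm]
      exact Nat.mul_le_mul_right _ (Nat.pow_le_pow_left (card_le_of_le inf_le_left) _)
    · have h1 := (hstr A₀ inf_le_right ((ElAct.of_elementary hAe).mono inf_le_left) hA₀c).le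
      rwa [hA₀C] at h1
  have hcA0 : cA ≤ c₀ := card_le_of_le (inf_le_inf_left _ (centralizer_le inf_le_left))
  have hpos : 0 < cA ^ 2 := pow_pos Nat.card_pos _
  have hek : e ^ 3 ≤ a ^ 2 * k := by
    refine Nat.le_of_mul_le_mul_right ?_ hpos
    calc e ^ 3 * cA ^ 2 ≤ e ^ 3 * c₀ ^ 2 := Nat.mul_le_mul_left _ (Nat.pow_le_pow_left hcA0 _)
      _ ≤ x ^ 2 * k ^ 3 := hc₀
      _ = k * (k * x) ^ 2 := by ring
      _ ≤ k * (a * cA) ^ 2 := Nat.mul_le_mul_left _ (Nat.pow_le_pow_left hoff _)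
      _ = _ := by ring
  -- the fixed points of `O²`
  set L := X ⊓ centralizer (O : Set G) with hLdef
  haveI hLn : L.Normal := inferInstance
  have hLX : L ≤ X := inf_le_left
  have hLO : ⁅L, O⁆ = ⊥ := commutator_eq_bot_iff_le_centralizer.2 inf_le_right
  have hLlt : L < X := lt_of_le_of_ne hLX fun eL => hCS (by
    have h1 : O ≤ C := Subgroup.le_centralizer_iff.1 (inf_eq_left.1 eL)
    rw [eq_top_iff, ← Cfsg.Lib.Fusion.sylow_sup_pResidual S]
    exact sup_le le_sup_right (h1.trans le_sup_left))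
  have hX1 : X ⊓ centralizer (Q : Set G) ≤ L := by
    by_contra hX1
    have hX1O : ¬ ⁅X ⊓ centralizer (Q : Set G), O⁆ ≤ ⊥ := fun hb =>
      hX1 (le_inf inf_le_left (commutator_eq_bot_iff_le_centralizer.1 (le_bot_iff.1 hb)))
    obtain ⟨Y, W, hYn, hWn, -, hYW, hWX, hch, hWO⟩ := exists_section (B := ⊥)
      (T := X ⊓ centralizer (Q : Set G)) (hXp.to_le inf_le_left) bot_le hX1O
    haveI := hYn
    haveI := hWn
    have hb := section_bound hyp S hkey (Cfsg.Lib.PGroup.isElementaryAbelian_of_le hXe (hWX.trans inf_le_left))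
      hYW hch hWO hAS hAe
    have hW0 : W ≤ X ⊓ centralizer (A₀ : Set G) :=
      le_inf (hWX.trans inf_le_left) (hWX.trans (inf_le_right.trans (centralizer_le inf_le_right)))
    have h2 := card_mul_le hW0 (inf_le_inf_left X (centralizer_le (inf_le_left : A₀ ≤ A)))
    rw [← inf_assoc, inf_eq_left.2 (hWX.trans inf_le_left)] at h2
    set cW := Nat.card ↥(W ⊓ centralizer (A : Set G))
    have h3 : a ^ 2 * cW ≤ Nat.card W * e ^ 2 := Nat.le_of_mul_le_mul_right
      (hb.trans (Nat.mul_le_mul_left _ (card_le_of_le inf_le_left))) Nat.card_pos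
    have h4 : a ^ 2 * cA ≤ e ^ 2 * c₀ := by
      refine Nat.le_of_mul_le_mul_right ?_ (Nat.card_pos : 0 < cW)
      calc a ^ 2 * cA * cW = a ^ 2 * cW * cA := by ring
        _ ≤ Nat.card W * e ^ 2 * cA := Nat.mul_le_mul_right _ h3
        _ = e ^ 2 * (Nat.card W * cA) := by ring
        _ ≤ e ^ 2 * (c₀ * cW) := Nat.mul_le_mul_left _ h2
        _ = _ := by ring
    have h5 : a ^ 4 * cA ^ 2 ≤ e * e * a ^ 2 * cA ^ 2 := by
      calc a ^ 4 * cA ^ 2 = (a ^ 2 * cA) ^ 2 := by ring
        _ ≤ (e ^ 2 * c₀) ^ 2 := Nat.pow_le_pow_left h4 _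
        _ = e * (e ^ 3 * c₀ ^ 2) := by ring
        _ ≤ e * (x ^ 2 * k ^ 3) := Nat.mul_le_mul_left _ hc₀
        _ = e * k * (k * x) ^ 2 := by ring
        _ ≤ e * e * (a * cA) ^ 2 := Nat.mul_le_mul (Nat.mul_le_mul_left _ hke) (Nat.pow_le_pow_left hoff _)
        _ = _ := by ring
    have h6 : e * e * a ^ 2 * cA ^ 2 < a ^ 4 * cA ^ 2 := by
      refine Nat.mul_lt_mul_of_pos_right ?_ hpos
      calc e * e * a ^ 2 < a * a * a ^ 2 :=
            Nat.mul_lt_mul_of_pos_right (Nat.mul_lt_mul'' hea hea) (pow_pos Nat.card_pos _)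
        _ = _ := by ring
    exact absurd h5 (not_le.2 h6)
  -- the first section
  obtain ⟨Xm, hXmn, hLm, hmX, hchm⟩ := exists_min_normal hXn hLlt
  haveI := hXmn
  have hXmO : ¬ ⁅Xm, O⁆ ≤ L := fun hb => hLm.not_ge (le_inf hmX
    (commutator_eq_bot_iff_le_centralizer.1 (le_bot_iff.1
      (triv_trans (hXp.to_le hmX) hLm.le hb hLO.le))))
  have hXme := Cfsg.Lib.PGroup.isElementaryAbelian_of_le hXe hmX
  have hXO : ⁅X, O⁆ ≤ Xm := by
    by_contra hcon
    obtain ⟨Y, W, hYn, hWn, hmY, hYW, hWX, hch, hWO⟩ := exists_section hXp hmX hcon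
    haveI := hYn
    haveI := hWn
    have hb1 := section_bound hyp S hkey hXme hLm hchm hXmO hAS hAe
    have hb2 := section_bound hyp S hkey (Cfsg.Lib.PGroup.isElementaryAbelian_of_le hXe hWX)
      hYW hch hWO hAS hAe
    set m := Nat.card Xm
    set cm := Nat.card ↥(Xm ⊓ centralizer (A : Set G))
    set cl := Nat.card ↥(L ⊓ centralizer (A : Set G))
    set cy := Nat.card ↥(Y ⊓ centralizer (A : Set G))
    set cw := Nat.card ↥(W ⊓ centralizer (A : Set G))
    have g1 : a ^ 2 * cm ≤ m * e ^ 2 := Nat.le_of_mul_le_mul_right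
      (hb1.trans (Nat.mul_le_mul_left _ (card_le_of_le inf_le_left))) Nat.card_pos
    have g2 : m * cy ≤ Nat.card Y * cm := by
      refine (card_mul_le hmY inf_le_left).trans (Nat.mul_le_mul_left _ (card_le_of_le ?_))
      exact inf_le_inf_left _ inf_le_right
    have g3 : Nat.card W * cA ≤ x * cw := by
      refine (card_mul_le hWX inf_le_left).trans (Nat.mul_le_mul_left _ (card_le_of_le ?_))
      exact inf_le_inf_left _ inf_le_right
    have g4 : a ^ 4 * cw ≤ Nat.card W * e ^ 4 := by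
      refine Nat.le_of_mul_le_mul_right ?_
        (Nat.mul_pos (Nat.card_pos : 0 < Nat.card Y) (Nat.card_pos : 0 < cm))
      calc a ^ 4 * cw * (Nat.card Y * cm) = (a ^ 2 * cw * Nat.card Y) * (a ^ 2 * cm) := by ring
        _ ≤ (Nat.card W * e ^ 2 * cy) * (m * e ^ 2) := Nat.mul_le_mul hb2 g1
        _ = Nat.card W * e ^ 4 * (m * cy) := by ring
        _ ≤ _ := Nat.mul_le_mul_left _ g2
    have g5 : a ^ 4 * cA ≤ e ^ 4 * x := by
      refine Nat.le_of_mul_le_mul_right ?_ (Nat.card_pos : 0 < cw)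
      calc a ^ 4 * cA * cw = a ^ 4 * cw * cA := by ring
        _ ≤ Nat.card W * e ^ 4 * cA := Nat.mul_le_mul_right _ g4
        _ = e ^ 4 * (Nat.card W * cA) := by ring
        _ ≤ e ^ 4 * (x * cw) := Nat.mul_le_mul_left _ g3
        _ = _ := by ring
    have g6 : a ^ 3 * k ≤ e ^ 4 := by
      refine Nat.le_of_mul_le_mul_right ?_
        (Nat.mul_pos (Nat.card_pos : 0 < a) (Nat.card_pos : 0 < x))
      calc a ^ 3 * k * (a * x) = a ^ 4 * (k * x) := by ring
        _ ≤ a ^ 4 * (a * cA) := Nat.mul_le_mul_left _ hoff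
        _ = a * (a ^ 4 * cA) := by ring
        _ ≤ a * (e ^ 4 * x) := Nat.mul_le_mul_left _ g5
        _ = _ := by ring
    have g7 : e ^ 3 * a ≤ e ^ 3 * e := by
      calc e ^ 3 * a ≤ a ^ 2 * k * a := Nat.mul_le_mul_right _ hek
        _ = a ^ 3 * k := by ring
        _ ≤ e ^ 4 := g6
        _ = _ := by ring
    exact absurd (Nat.le_of_mul_le_mul_left g7 (pow_pos Nat.card_pos _)) (not_le.2 hea)
  -- `X` is `V Xm`
  have hVm : V ⊔ Xm = X := by
    refine le_antisymm (sup_le hVX hmX) ?_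
    haveI : (V ⊔ Xm).Normal := by
      rw [← normalizer_eq_top_iff, eq_top_iff, ← Cfsg.Lib.Fusion.sylow_sup_pResidual S, sup_le_iff]
      constructor
      · intro t ht
        rw [mem_normalizer_iff_map_conj, Subgroup.map_sup, map_conj_eq_of_mem_normalizer (h.norm ht),
          map_conj_eq_of_mem_normalizer (le_normalizer_of_normal (mem_top t))]
      · rw [Cfsg.Lib.Core.le_normalizer_iff_conj_mem]
        intro o ho w hw
        have h1 : ⁅o, w⁆ ∈ Xm := by
          rw [← inv_mem_iff, commutatorElement_inv]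
          exact hXO (commutator_mem_commutator ((sup_le hVX hmX : V ⊔ Xm ≤ X) hw) ho)
        rw [show o * w * o⁻¹ = ⁅o, w⁆ * w by rw [commutatorElement_def]; group]
        exact mul_mem ((le_sup_right : Xm ≤ V ⊔ Xm) h1) hw
    exact normalClosure_le_normal (le_sup_left : V ≤ V ⊔ Xm)
  -- `Q` on the first section
  have hQm : ⁅Xm, Q⁆ ≤ L := le_act_iff.1 (normal_le_act S (hXp.to_le hmX) hLm hchm
    fun n hn => ⟨n, hQS hn, by rw [inv_mul_cancel]; exact one_mem _⟩)
  have hXQV : ⁅X, Q⁆ ≤ V ⊔ L := by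
    rw [commutator_le]
    intro g hg q hq
    have hg' : g ∈ V ⊔ Xm := hVm.symm ▸ hg
    rw [mem_sup_of_normal_right] at hg'
    obtain ⟨v, hv, m, hm, rfl⟩ := hg'
    rw [comm_mul_left]
    refine mul_mem ((le_sup_right : L ≤ _) (hLn.conj_mem _ (hQm (commutator_mem_commutator hm hq)) v))
      ((le_sup_left : V ≤ _) ?_)
    rw [commutatorElement_def, show v * q * v⁻¹ * q⁻¹ = v * (q * v⁻¹ * q⁻¹) by group]
    exact mul_mem hv ((mem_normalizer_iff.1 (h.norm (hQS hq)) v⁻¹).1 (inv_mem hv))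
  have hXQm : ⁅X, Q⁆ ⊓ Xm ≤ L := by
    rcases hchm ((⁅X, Q⁆ ⊓ Xm) ⊔ L) inferInstance le_sup_right (sup_le inf_le_right hLm.le) with h1 | h1
    · exact le_sup_left.trans h1.le
    · exfalso
      have hA' : A ≤ act L Xm := by
        rw [← h1]
        intro b hb
        refine mem_act.2 fun w hw => ?_
        have hw' : w ∈ V ⊔ L := (sup_le (inf_le_left.trans hXQV) le_sup_right) hw
        rw [mem_sup_of_normal_right] at hw'
        obtain ⟨v, hv, l, hl, rfl⟩ := hw'
        rw [comm_mul_left, (commutatorElement_eq_one_iff_mul_comm.2 (mem_centralizer_iff.1 (hAV hb) v hv)),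
          mul_one]
        refine hLn.conj_mem _ ?_ v
        exact commutator_le_left L A (commutator_mem_commutator hl hb)
      exact hAnQ ((le_inf hAS hA').trans (hkey _ inferInstance fun e2 =>
        hXmO (le_act_iff.1 (residual_le_of_sup_eq_top S e2))))
  -- the subgroup `[Q, O²]`
  set P := ⁅Q, O⁆ with hPdef
  haveI : P.Normal := Subgroup.commutator_normal Q O
  have hPQ : P ≤ Q := commutator_le_left Q O
  have hXP : ⁅X, P⁆ ≤ L := by
    rw [commutator_comm]
    refine rotate_mod (A := Q) (B := O) (C := X) ?_ ?_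
    · refine (commutator_mono ?_ le_rfl).trans hQm
      rw [commutator_comm]; exact hXO
    · refine le_trans (le_inf (commutator_le_left _ _) ?_) hXQm
      exact (commutator_mono (commutator_le_left X Q) le_rfl).trans hXO
  have hLP : ⁅L, P⁆ = ⊥ := by
    rw [commutator_comm]
    refine commutator_commutator_eq_bot_of_rotate ?_ ?_
    · rw [commutator_comm O L, hLO, commutator_bot_left]
    · exact le_bot_iff.1 ((commutator_mono (commutator_le_left L Q) le_rfl).trans hLO.le)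
  have hPel : ElAct P X := by
    refine ⟨commutator_eq_bot_iff_le_centralizer.1 ?_, fun r hr => mem_centralizer_iff.2 fun w hw => ?_⟩
    · refine commutator_commutator_eq_bot_of_rotate ?_ ?_
      · rw [commutator_comm P X]
        exact le_bot_iff.1 ((commutator_mono hXP le_rfl).trans hLP.le)
      · exact le_bot_iff.1 ((commutator_mono hXP le_rfl).trans hLP.le)
    · have hl := hXP (commutator_mem_commutator hw hr)
      have h1 : ⁅w, r ^ 2⁆ = 1 := by
        rw [pow_two, comm_mul_right,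
          mem_centralizer_iff.1 (commutator_eq_bot_iff_le_centralizer.1 hLP hl) r hr,
          mul_inv_cancel_right, ← pow_two, hXe.2 _ (hLX hl)]
      exact commutatorElement_eq_one_iff_mul_comm.1 h1
  -- an element of odd order
  obtain ⟨y, hy, w₀, hw₀, hwy⟩ : ∃ y : G, Odd (orderOf y) ∧ ∃ w ∈ Xm, ⁅w, y⁆ ∉ L := by
    by_contra hcon
    push Not at hcon
    exact hXmO (comm_residual_le hcon)
  have hyO : zpowers y ≤ O := (zpowers_le).2 (mem_residual_of_odd hy)
  set E := ⁅X, zpowers y⁆ with hEdef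
  have hEm : E ≤ Xm := (commutator_mono le_rfl hyO).trans hXO
  have hEne : E ≠ ⊥ := fun e0 => hwy (by
    have h1 : ⁅w₀, y⁆ ∈ E := commutator_mem_commutator (hmX hw₀) (mem_zpowers y)
    rw [e0, mem_bot] at h1
    rw [h1]; exact one_mem _)
  have hEd : E ⊓ centralizer (zpowers y : Set G) = ⊥ := disjoint_iff.1
    (Cfsg.Lib.Coprime.disjoint_commutator_centralizer le_normalizer_of_normal (coprime_zpowers hXp hy))
  have hEL : E ⊓ L = ⊥ := le_bot_iff.1
    ((inf_le_inf_left E (inf_le_right.trans (centralizer_le hyO))).trans hEd.le)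
  -- `P` is nontrivial on the section
  have hPm : ⁅Xm, P⁆ ≠ ⊥ := by
    intro hb
    set H := Q ⊓ centralizer (zpowers y : Set G) with hH
    have hHN : H ≤ normalizer (E : Set G) := by
      rw [Cfsg.Lib.Core.le_normalizer_iff_conj_mem]
      intro q hq w hw
      have h1 : E.map (MulAut.conj q).toMonoidHom ≤ E := by
        rw [hEdef, map_commutator]
        refine commutator_mono ?_ ?_
        · rintro _ ⟨v, hv, rfl⟩; exact hXn.conj_mem v hv q
        · rintro _ ⟨z, hz, rfl⟩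
          simp only [MulEquiv.coe_toMonoidHom, MulAut.conj_apply]
          rw [← mem_centralizer_iff.1 hq.2 z hz, mul_inv_cancel_right]
          exact hz
      exact h1 ⟨w, hw, rfl⟩
    set M := E ⊔ H
    have hMQ : M ≤ Q := sup_le (hEm.trans (hmX.trans hXQ)) inf_le_left
    haveI : (E.subgroupOf M).Normal :=
      (normal_subgroupOf_iff_le_normalizer le_sup_left).2 (sup_le le_normalizer hHN)
    have hne' : E.subgroupOf M ≠ ⊥ := fun e0 => hEne (by
      rw [← map_subgroupOf_eq_of_le (le_sup_left : E ≤ M), e0, Subgroup.map_bot])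
    obtain ⟨z, hz, hz1⟩ := (E.subgroupOf M ⊓ center ↥M).bot_or_exists_ne_one.resolve_left
      (Cfsg.Lib.PGroup.inf_center_ne_bot (hQp.to_le hMQ) hne')
    have hzE : (z : G) ∈ E := hz.1
    refine hz1 (Subtype.ext (mem_bot.1 (hEL.le ⟨hzE, hX1 ⟨hmX (hEm hzE), ?_⟩⟩)))
    refine mem_centralizer_iff.2 fun q hq => ?_
    obtain ⟨n, hn, c, hc, rfl⟩ := Cfsg.Lib.Coprime.le_commutator_sup_centralizer (A := zpowers y) (G := Q)
      le_normalizer_of_normal (coprime_zpowers hQp hy) (solv_zpowers y Q) hq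
    have h1 : Commute c (z : G) :=
      congrArg Subtype.val (mem_center_iff.1 hz.2 ⟨c, (le_sup_right : H ≤ M) hc⟩)
    have h2 : Commute (z : G) n := by
      rw [commute_iff_eq, ← commutatorElement_eq_one_iff_mul_comm, ← mem_bot, ← hb]
      exact commutator_mem_commutator (hEm hzE) ((commutator_mono le_rfl hyO : ⁅Q, zpowers y⁆ ≤ P) hn)
    exact (h2.symm.mul_left h1).eq
  -- the pairing
  set I := ⁅Xm, P⁆ with hIdef
  haveI : I.Normal := Subgroup.commutator_normal Xm P
  have hIL : I ≤ L := (commutator_mono hmX le_rfl).trans hXP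
  obtain ⟨L', hL'n, -, hL'I, hchI⟩ := exists_max_normal (B := ⊥) inferInstance (bot_lt_iff_ne_bot.2 hPm)
  haveI := hL'n
  have hI2 : Nat.card ↥(I.map (QuotientGroup.mk' L')) ≤ 2 := by
    obtain ⟨t, htI, htL, ht⟩ := exists_fixed S (hXp.to_le (hIL.trans hLX)) hL'I
    set π := QuotientGroup.mk' L'
    have hcent : π t ∈ center (G ⧸ L') := by
      rw [mem_center_iff]
      intro g
      obtain ⟨g, rfl⟩ := QuotientGroup.mk'_surjective L' g
      obtain ⟨s, hs, o, ho, rfl⟩ := Cfsg.Lib.Fusion.exists_mul_of_sylow S g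
      have h1 : Commute (π t) (π s) := by
        rw [commute_iff_eq, ← commutatorElement_eq_one_iff_mul_comm, ← map_commutatorElement]
        exact (QuotientGroup.eq_one_iff _).2 (ht s hs)
      have h2 : Commute t o := (mem_centralizer_iff.1 (hIL htI).2 o ho).symm
      rw [map_mul]
      exact ((h1.mul_right (h2.map π)).eq).symm
    haveI : (zpowers (π t)).Normal := ⟨fun z hz g => by
      rw [mem_center_iff.1 ((zpowers_le).2 hcent hz) g, mul_inv_cancel_right]; exact hz⟩
    have hJ : I ≤ (zpowers (π t)).comap π := by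
      rcases hchI (I ⊓ (zpowers (π t)).comap π) inferInstance
        (le_inf hL'I.le fun l hl => by
          rw [mem_comap, show π l = 1 from (QuotientGroup.eq_one_iff l).2 hl]; exact one_mem _)
        inf_le_left with h1 | h1
      · exact absurd (h1 ▸ (⟨htI, mem_zpowers _⟩ : t ∈ I ⊓ (zpowers (π t)).comap π)) htL
      · exact inf_eq_left.1 h1
    refine (card_le_of_le (map_le_iff_le_comap.2 hJ)).trans ?_
    rw [Nat.card_zpowers]
    refine Nat.le_of_dvd two_pos (orderOf_dvd_of_pow_eq_one ?_)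
    rw [← map_pow, hXe.2 t (hLX (hIL htI)), map_one]
  set R := ⁅P, zpowers y⁆ with hRdef
  have hRP : R ≤ P := Cfsg.Lib.Coprime.commutator_le_of_le_normalizer le_normalizer_of_normal
  have hEP : ⁅E, P ⊓ centralizer (zpowers y : Set G)⁆ = ⊥ := by
    refine commutator_commutator_eq_bot_of_rotate ?_ ?_
    · rw [commutator_comm (zpowers y), commutator_eq_bot_iff_le_centralizer.2 inf_le_right,
        commutator_bot_left]
    · exact le_bot_iff.1 ((commutator_mono ((commutator_comm _ _).le.trans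
        ((commutator_mono le_rfl inf_le_left).trans hXP)) hyO).trans hLO.le)
  have hinj : E ⊓ act L' R = ⊥ := by
    have hD : Xm ⊓ act L' P = L := by
      refine (hchm _ inferInstance (le_inf hLm.le (le_act_iff.2 ?_)) inf_le_left).resolve_right fun h1 => ?_
      · rw [commutator_comm, hLP]; exact bot_le
      · refine hL'I.not_ge ?_
        rw [hIdef, commutator_comm]
        exact le_act_iff.1 (inf_eq_left.1 h1)
    refine le_bot_iff.1 (le_trans ?_ hEL.le)
    rintro w ⟨hwE, hwR⟩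
    refine ⟨hwE, hD.le ⟨hEm hwE, mem_act.2 fun p hp => ?_⟩⟩
    obtain ⟨n, hn, c, hc, rfl⟩ := Cfsg.Lib.Coprime.le_commutator_sup_centralizer (A := zpowers y) (G := P)
      le_normalizer_of_normal (coprime_zpowers (hQp.to_le hPQ) hy) (solv_zpowers y P) hp
    have h1 : ⁅c, w⁆ = 1 := by
      rw [← mem_bot, ← hEP, commutator_comm]
      exact commutator_mem_commutator hc hwE
    rw [comm_mul_left, h1, mul_one, mul_inv_cancel, one_mul]
    exact mem_act.1 hwR n hn
  have hcount := card_pairing hXe (hEm.trans hmX) (commutator_mono hEm hRP) (hIL.trans hLX) hI2 hinj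
  have hcX := Cfsg.Lib.Coprime.card_commutator_mul_card_centralizer
    (G := X) (A := zpowers y) le_normalizer_of_normal (coprime_zpowers hXp hy)
  rw [← hEdef] at hcX
  set c := Nat.card ↥(X ⊓ centralizer (R : Set G))
  set E₁ := Nat.card E
  set r₀ := Nat.card ↥(R ⊓ C)
  have hyc : X ⊓ centralizer (zpowers y : Set G) ≤ X ⊓ centralizer (R : Set G) := by
    refine le_inf inf_le_left (Subgroup.le_centralizer_iff.1 (commutator_eq_bot_iff_le_centralizer.1 ?_))
    refine commutator_commutator_eq_bot_of_rotate ?_ ?_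
    · rw [commutator_comm (zpowers y), commutator_eq_bot_iff_le_centralizer.2 inf_le_right,
        commutator_bot_left]
    · exact le_bot_iff.1 ((commutator_mono ((commutator_mono inf_le_left le_rfl).trans hXP) hyO).trans hLO.le)
  have hx' : x ≤ E₁ * c := by
    calc x = E₁ * Nat.card ↥(X ⊓ centralizer (zpowers y : Set G)) := hcX.symm
      _ ≤ _ := Nat.mul_le_mul_left _ (card_le_of_le hyc)
  have hE1 : 1 < E₁ := (Subgroup.one_lt_card_iff_ne_bot E).2 hEne
  have hRC : ¬ R ≤ C := fun hc' => by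
    rw [show r₀ = Nat.card R by simp only [r₀, inf_eq_left.2 hc']] at hcount
    have h1 : 1 * Nat.card R < E₁ * Nat.card R := Nat.mul_lt_mul_of_pos_right hE1 Nat.card_pos
    omega
  have hs := hstr R (hRP.trans hPQ) (hPel.mono hRP) hRC
  have : x ^ 2 * r₀ ^ 3 ≤ Nat.card R ^ 3 * c ^ 2 := by
    calc x ^ 2 * r₀ ^ 3 ≤ (E₁ * c) ^ 2 * r₀ ^ 3 := Nat.mul_le_mul_right _ (Nat.pow_le_pow_left hx' _)
      _ = 1 * ((E₁ * c) ^ 2 * r₀ ^ 3) := (one_mul _).symm
      _ ≤ E₁ * ((E₁ * c) ^ 2 * r₀ ^ 3) := Nat.mul_le_mul_right _ hE1.le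
      _ = (E₁ * r₀) ^ 3 * c ^ 2 := by ring
      _ ≤ _ := Nat.mul_le_mul_right _ (Nat.pow_le_pow_left hcount _)
  exact absurd hs (not_lt.2 this)

end Cfsg.Lib.Local.Triple
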